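import Groth.Agent.FlatValLib.Main
import Groth.Agent.DimFormulaLib.Chart

/-!
# The valuative criterion of flatness for morphisms locally of finite type
-/

set_option autoImplicit false
set_option linter.style.haveILetI false
set_option backward.isDefEq.respectTransparency false
set_option backward.defeqAttrib.useBackward true

open CategoryTheory CategoryTheory.Limits AlgebraicGeometry TensorProduct IsLocalRing

universe u

namespace Groth.Agent.FlatValLib

variable {X Y : Scheme.{u}}

theorem smul_self_eq_mul {A B V : Type u} [CommRing A] [CommRing B] [Algebra A B] [CommRing V] [Algebra A V]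
    (t : B ⊗[A] V) (y : MV A B V B) : t • y = ((t * (show B ⊗[A] V from y) : B ⊗[A] V) : MV A B V B) := by
  induction t using TensorProduct.induction_on with
  | zero =>
    rw [zero_smul]
    exact (zero_mul (show B ⊗[A] V from y)).symm
  | add t t' ht ht' =>
    rw [add_smul, ht, ht']
    exact (add_mul t t' (show B ⊗[A] V from y)).symm
  | tmul b v =>
    induction y using MV.induction with
    | zero =>
      rw [smul_zero]
      exact (mul_zero (b ⊗ₜ[A] v : B ⊗[A] V)).symm
    | add x z hx hz =>
      rw [smul_add, hx, hz]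
      exact (mul_add (b ⊗ₜ[A] v : B ⊗[A] V) (show B ⊗[A] V from x) (show B ⊗[A] V from z)).symm
    | mk m w => exact (smul_mk b v m w).trans (Algebra.TensorProduct.tmul_mul_tmul b m v w).symm

/-- The image of the closed point lifts morphisms to local homomorphisms. -/
theorem exists_localHom {V : Type u} [CommRing V] [IsLocalRing V] (g : Spec (CommRingCat.of V) ⟶ Y) {y : Y}
    (hy : g.base (closedPoint V) = y) :
    ∃ φ : (Y.presheaf.stalk y : Type u) →+* V, IsLocalHom φ ∧
      Spec.map (CommRingCat.ofHom φ) ≫ Y.fromSpecStalk y = g := by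
  subst hy
  exact ⟨(Scheme.stalkClosedPointTo g).hom, inferInstance, Scheme.Spec_stalkClosedPointTo_fromSpecStalk g⟩

theorem localHom_closedPoint {V : Type u} [CommRing V] [IsLocalRing V] {y : Y}
    (φ : (Y.presheaf.stalk y : Type u) →+* V) [IsLocalHom φ] :
    (Spec.map (CommRingCat.ofHom φ) ≫ Y.fromSpecStalk y).base (closedPoint V) = y := by
  rw [Scheme.Hom.comp_apply]
  have : (Spec.map (CommRingCat.ofHom φ)).base (closedPoint V) = closedPoint (Y.presheaf.stalk y) :=
    IsLocalRing.comap_closedPoint φ
  rw [this]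
  exact Scheme.fromSpecStalk_closedPoint

section Pullback

variable {R S : Type u} [CommRing R] [CommRing S] [Algebra R S] {f : X ⟶ Y}
  (i : Spec (CommRingCat.of R) ⟶ Y) (j : Spec (CommRingCat.of S) ⟶ X)
  (hw : j ≫ f = Spec.map (CommRingCat.ofHom (algebraMap R S)) ≫ i)
  (V : Type u) [CommRing V] [Algebra R V]

/-- The map from the affine base change. -/
noncomputable def affinePt :
    Spec (CommRingCat.of (S ⊗[R] V)) ⟶ pullback f (Spec.map (CommRingCat.ofHom (algebraMap R V)) ≫ i) :=
  (pullbackSpecIso R S V).inv ≫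
    pullback.map (Spec.map (CommRingCat.ofHom (algebraMap R S))) (Spec.map (CommRingCat.ofHom (algebraMap R V)))
      f (Spec.map (CommRingCat.ofHom (algebraMap R V)) ≫ i) j (𝟙 _) i hw.symm (by rw [Category.id_comp])

theorem affinePt_fst : affinePt i j hw V ≫ pullback.fst _ _ =
    Spec.map (CommRingCat.ofHom Algebra.TensorProduct.includeLeftRingHom) ≫ j := by
  rw [affinePt, Category.assoc, pullback.lift_fst, pullbackSpecIso_inv_fst_assoc]

theorem affinePt_snd : affinePt i j hw V ≫ pullback.snd _ _ =
    Spec.map (CommRingCat.ofHom (Algebra.TensorProduct.includeRight (R := R) (A := S) (B := V)).toRingHom) := by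
  rw [affinePt, Category.assoc, pullback.lift_snd, Category.comp_id, pullbackSpecIso_inv_snd]
  rfl

instance [IsOpenImmersion i] [IsOpenImmersion j] : IsOpenImmersion (affinePt i j hw V) := by
  unfold affinePt
  infer_instance

/-- Flatness of the second projection at an affine point. -/
theorem flat_snd_stalkMap_iff [IsOpenImmersion i] [IsOpenImmersion j] (Q : PrimeSpectrum (S ⊗[R] V)) :
    ((pullback.snd f (Spec.map (CommRingCat.ofHom (algebraMap R V)) ≫ i)).stalkMap
        ((affinePt i j hw V).base Q)).hom.Flat ↔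
      (Localization.localRingHom
        (Q.asIdeal.comap (Algebra.TensorProduct.includeRight (R := R) (A := S) (B := V)).toRingHom) Q.asIdeal
        (Algebra.TensorProduct.includeRight (R := R) (A := S) (B := V)).toRingHom rfl).Flat := by
  let k := affinePt i j hw V
  let s := pullback.snd f (Spec.map (CommRingCat.ofHom (algebraMap R V)) ≫ i)
  have h1 : (((k ≫ s).stalkMap Q)).hom.Flat ↔ (s.stalkMap (k.base Q)).hom.Flat := by
    rw [Scheme.Hom.stalkMap_comp]
    exact RingHom.Flat.respectsIso.cancel_right_isIso _ _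
  rw [← h1, affinePt_snd i j hw V]
  exact RingHom.Flat.respectsIso.arrow_mk_iso_iff (Scheme.arrowStalkMapSpecIso _ _)

end Pullback

section Chart

variable {f : X ⟶ Y} {x : X}

/-- Flatness of the stalk map in a chart. -/
theorem flat_stalkMap_iff (c : DimFormulaLib.Chart f x) :
    (f.stalkMap x).hom.Flat ↔
      Module.Flat c.A (Localization.AtPrime c.q.asIdeal) := by
  have h0 : (f.stalkMap x).hom.Flat ↔ (f.stalkMap (c.j.base c.q)).hom.Flat := by rw [c.hq]
  rw [h0]
  have h1 : ((c.j ≫ f).stalkMap c.q).hom.Flat ↔ (f.stalkMap (c.j.base c.q)).hom.Flat := by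
    rw [Scheme.Hom.stalkMap_comp]
    exact RingHom.Flat.respectsIso.cancel_right_isIso _ _
  have h2 : ((Spec.map (CommRingCat.ofHom (algebraMap c.A c.B)) ≫ c.i).stalkMap c.q).hom.Flat ↔
      ((Spec.map (CommRingCat.ofHom (algebraMap c.A c.B))).stalkMap c.q).hom.Flat := by
    rw [Scheme.Hom.stalkMap_comp]
    exact RingHom.Flat.respectsIso.cancel_left_isIso _ _
  rw [← h1, c.w, h2]
  refine (RingHom.Flat.respectsIso.arrow_mk_iso_iff (Scheme.arrowStalkMapSpecIso _ _)).trans ?_
  let p := c.q.asIdeal.comap (algebraMap c.A c.B)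
  let φ := Localization.localRingHom p c.q.asIdeal (algebraMap c.A c.B) rfl
  letI : Algebra (Localization.AtPrime p) (Localization.AtPrime c.q.asIdeal) := φ.toAlgebra
  haveI : IsScalarTower c.A (Localization.AtPrime p) (Localization.AtPrime c.q.asIdeal) :=
    .of_algebraMap_eq fun a => by
      show algebraMap c.A (Localization.AtPrime c.q.asIdeal) a = φ (algebraMap c.A (Localization.AtPrime p) a)
      rw [Localization.localRingHom_to_map, ← IsScalarTower.algebraMap_apply]
  exact Module.flat_iff_of_isLocalization (Localization.AtPrime p) p.primeCompl (Localization.AtPrime c.q.asIdeal)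

/-- The torsion condition at a chart gives flatness. -/
theorem flat_chart_of_valuative (c : DimFormulaLib.Chart f x)
    [IsNoetherianRing (Localization.AtPrime c.p.asIdeal)]
    [_root_.IsReduced (Localization.AtPrime c.p.asIdeal)]
    (h : ∀ (V : Type u) [CommRing V] [IsDomain V] [IsDiscreteValuationRing V]
      (g : Spec (CommRingCat.of V) ⟶ Y), g.base (closedPoint V) = f.base x →
        ∀ x' : ↥(pullback f g), (pullback.fst f g).base x' = x →
          (pullback.snd f g).base x' = closedPoint V → ((pullback.snd f g).stalkMap x').hom.Flat) :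
    Module.Flat c.A (Localization.AtPrime c.q.asIdeal) := by
  let AA := Localization.AtPrime c.p.asIdeal
  let B := AA ⊗[c.A] c.B
  let Sq := Localization.AtPrime c.q.asIdeal
  let φ : AA →ₐ[c.A] Sq :=
    { Localization.localRingHom c.p.asIdeal c.q.asIdeal (algebraMap c.A c.B) rfl with
      commutes' := fun a => by
        show Localization.localRingHom c.p.asIdeal c.q.asIdeal (algebraMap c.A c.B) rfl (algebraMap c.A AA a) = _
        rw [Localization.localRingHom_to_map, ← IsScalarTower.algebraMap_apply] }
  let η : B →ₐ[c.A] Sq := Algebra.TensorProduct.lift φ (IsScalarTower.toAlgHom c.A c.B Sq) fun _ _ => Commute.all _ _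
  have hηr : ∀ s : c.B, η (1 ⊗ₜ s) = algebraMap c.B Sq s := fun s => by
    simp only [η]
    rw [Algebra.TensorProduct.lift_tmul, map_one, one_mul, IsScalarTower.toAlgHom_apply]
  have hηl : ∀ a : AA, η (a ⊗ₜ 1) = φ a := fun a => by
    simp only [η]
    rw [Algebra.TensorProduct.lift_tmul, map_one, mul_one]
  let qB : Ideal B := (maximalIdeal Sq).comap η.toRingHom
  have hqS : ∀ s : c.B, ((1 : AA) ⊗ₜ[c.A] s : B) ∈ qB ↔ s ∈ c.q.asIdeal := fun s => by
    show η (1 ⊗ₜ s) ∈ maximalIdeal Sq ↔ _
    rw [hηr]
    exact IsLocalization.AtPrime.to_map_mem_maximal_iff Sq c.q.asIdeal s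
  have hM : ValFlatAt AA B B qB := by
    intro V _ _ _ _ Q _ hl hr π hπ y hy
    letI : Algebra c.A V := ((algebraMap AA V).comp (algebraMap c.A AA)).toAlgebra
    haveI : IsScalarTower c.A AA V := .of_algebraMap_eq' rfl
    let T := c.B ⊗[c.A] V
    letI : Algebra AA T :=
      ((Algebra.TensorProduct.includeRight (R := c.A) (A := c.B) (B := V)).toRingHom.comp (algebraMap AA V)).toAlgebra
    haveI : IsScalarTower c.A AA T := .of_algebraMap_eq fun a => by
      show algebraMap c.A T a =
        (Algebra.TensorProduct.includeRight (R := c.A) (A := c.B) (B := V)) (algebraMap AA V (algebraMap c.A AA a))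
      rw [← IsScalarTower.algebraMap_apply c.A AA V, AlgHom.commutes]
    let BV := B ⊗[AA] V
    let toB : c.B →ₐ[c.A] BV :=
      ((Algebra.TensorProduct.includeLeft : B →ₐ[AA] BV).restrictScalars c.A).comp
        (Algebra.TensorProduct.includeRight : c.B →ₐ[c.A] B)
    let θT : T →ₐ[c.A] BV := Algebra.TensorProduct.lift toB
      ((Algebra.TensorProduct.includeRight : V →ₐ[AA] BV).restrictScalars c.A) fun a b => mul_comm (G := B ⊗[AA] V) (toB a) _
    have hθl : ∀ s : c.B, θT (s ⊗ₜ 1) = ((1 : AA) ⊗ₜ[c.A] s) ⊗ₜ[AA] (1 : V) := fun s => by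
      refine (Algebra.TensorProduct.lift_tmul _ _ _ s 1).trans ?_
      show ((((1 : AA) ⊗ₜ[c.A] s) ⊗ₜ[AA] (1 : V)) : B ⊗[AA] V) * ((1 : B) ⊗ₜ[AA] (1 : V)) = _
      rw [Algebra.TensorProduct.tmul_mul_tmul, mul_one, mul_one]
    have hθr : ∀ v : V, θT (1 ⊗ₜ v) = (1 : B) ⊗ₜ[AA] v := fun v => by
      refine (Algebra.TensorProduct.lift_tmul _ _ _ 1 v).trans ?_
      show ((((1 : AA) ⊗ₜ[c.A] (1 : c.B)) ⊗ₜ[AA] (1 : V)) : B ⊗[AA] V) * ((1 : B) ⊗ₜ[AA] v) = _
      rw [Algebra.TensorProduct.tmul_mul_tmul, one_mul, ← Algebra.TensorProduct.one_def, one_mul]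
    let ξB : B →ₐ[AA] T := Algebra.TensorProduct.lift (Algebra.ofId AA T)
      (Algebra.TensorProduct.includeLeft : c.B →ₐ[c.A] T) fun _ _ => Commute.all _ _
    let ξ : BV →ₐ[AA] T := Algebra.TensorProduct.lift ξB
      { (Algebra.TensorProduct.includeRight (R := c.A) (A := c.B) (B := V)).toRingHom with
        commutes' := fun _ => rfl } fun _ _ => Commute.all _ _
    have hid : ∀ z : BV, θT (ξ z) = z := by
      intro z
      induction z using TensorProduct.induction_on with
      | zero => rw [map_zero, map_zero]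
      | add a b ha hb => rw [map_add, map_add, ha, hb]
      | tmul b v =>
        have e1 : ξ (b ⊗ₜ v) = ξB b * ((1 : c.B) ⊗ₜ[c.A] v) := by
          simp only [ξ]
          rw [Algebra.TensorProduct.lift_tmul]
          rfl
        rw [e1, map_mul, hθr]
        have e2 : θT (ξB b) = b ⊗ₜ[AA] (1 : V) := by
          clear e1
          induction b using TensorProduct.induction_on with
          | zero => rw [map_zero, map_zero, TensorProduct.zero_tmul]
          | add a b ha hb => rw [map_add, map_add, ha, hb, TensorProduct.add_tmul]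
          | tmul a s =>
            have e3 : ξB (a ⊗ₜ s) = ((1 : c.B) ⊗ₜ[c.A] algebraMap AA V a) * (s ⊗ₜ[c.A] (1 : V)) := by
              simp only [ξB]
              rw [Algebra.TensorProduct.lift_tmul]
              rfl
            rw [e3, map_mul, hθr, hθl, Algebra.TensorProduct.tmul_mul_tmul, one_mul, mul_one,
              Algebra.algebraMap_eq_smul_one a, TensorProduct.tmul_smul, TensorProduct.smul_tmul',
              TensorProduct.smul_tmul', smul_eq_mul, mul_one]
        rw [e2, Algebra.TensorProduct.tmul_mul_tmul, mul_one, one_mul]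
    let Q' : PrimeSpectrum T := ⟨Q.comap θT.toRingHom, inferInstance⟩
    let g := Spec.map (CommRingCat.ofHom (algebraMap c.A V)) ≫ c.i
    have hlow : Q'.asIdeal.comap (Algebra.TensorProduct.includeLeftRingHom : c.B →+* T) = c.q.asIdeal := by
      ext s
      show θT (s ⊗ₜ 1) ∈ Q ↔ _
      rw [hθl, ← hqS s, ← hl]
      rfl
    have hright : Q'.asIdeal.comap
        (Algebra.TensorProduct.includeRight (R := c.A) (A := c.B) (B := V)).toRingHom = maximalIdeal V := by
      ext v
      show θT (1 ⊗ₜ v) ∈ Q ↔ _
      rw [hθr, ← hr]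
      rfl
    have hgc : g.base (closedPoint V) = f.base x := by
      rw [show f.base x = c.i c.p from c.hp.symm]
      show c.i (PrimeSpectrum.comap (algebraMap c.A V) (closedPoint V)) = c.i c.p
      congr 1
      refine PrimeSpectrum.ext ?_
      show (maximalIdeal V).comap (algebraMap c.A V) = c.q.asIdeal.comap (algebraMap c.A c.B)
      rw [← hright, ← hlow, Ideal.comap_comap (I := Q'.asIdeal), Ideal.comap_comap (I := Q'.asIdeal)]
      refine congrArg (fun φ : c.A →+* T => Q'.asIdeal.comap φ) (RingHom.ext fun a => ?_)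
      exact (((Algebra.TensorProduct.includeRight (R := c.A) (A := c.B) (B := V))).commutes a).trans
        ((Algebra.TensorProduct.includeLeft (R := c.A) (S := c.A) (A := c.B) (B := V)).commutes a).symm
    have hflat := h V g hgc ((affinePt c.i c.j c.w V).base Q') (by
      rw [← Scheme.Hom.comp_apply, affinePt_fst, Scheme.Hom.comp_apply]
      refine Eq.trans ?_ c.hq
      exact congrArg _ (PrimeSpectrum.ext hlow)) (by
      rw [← Scheme.Hom.comp_apply, affinePt_snd]
      exact PrimeSpectrum.ext hright)
    rw [flat_snd_stalkMap_iff c.i c.j c.w V Q'] at hflat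
    -- torsion
    let ψ := Localization.localRingHom
      (Q'.asIdeal.comap (Algebra.TensorProduct.includeRight (R := c.A) (A := c.B) (B := V)).toRingHom) Q'.asIdeal
      (Algebra.TensorProduct.includeRight (R := c.A) (A := c.B) (B := V)).toRingHom rfl
    letI : Algebra (Localization.AtPrime (Q'.asIdeal.comap
      (Algebra.TensorProduct.includeRight (R := c.A) (A := c.B) (B := V)).toRingHom))
      (Localization.AtPrime Q'.asIdeal) := ψ.toAlgebra
    haveI hfi : Module.Flat (Localization.AtPrime (Q'.asIdeal.comap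
      (Algebra.TensorProduct.includeRight (R := c.A) (A := c.B) (B := V)).toRingHom))
      (Localization.AtPrime Q'.asIdeal) := hflat
    rw [smul_self_eq_mul] at hy
    have h0 : ((1 : c.B) ⊗ₜ[c.A] π : T) * ξ y = 0 := by
      have e : ξ ((1 : B) ⊗ₜ[AA] π) = (1 : c.B) ⊗ₜ[c.A] π := by
        simp only [ξ]
        rw [Algebra.TensorProduct.lift_tmul, map_one, one_mul]
        rfl
      rw [← e, ← map_mul]
      exact (congrArg ξ hy).trans (map_zero ξ)
    have hne : algebraMap V (Localization.AtPrime (Q'.asIdeal.comap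
        (Algebra.TensorProduct.includeRight (R := c.A) (A := c.B) (B := V)).toRingHom)) π ≠ 0 := fun h0 =>
      hπ.ne_zero (IsLocalization.injective _ (Ideal.primeCompl_le_nonZeroDivisors (Q'.asIdeal.comap
        (Algebra.TensorProduct.includeRight (R := c.A) (A := c.B) (B := V)).toRingHom)) (h0.trans (map_zero _).symm))
    have hreg : IsRegular (algebraMap V (Localization.AtPrime (Q'.asIdeal.comap
        (Algebra.TensorProduct.includeRight (R := c.A) (A := c.B) (B := V)).toRingHom)) π) := by
      haveI : IsDomain (Localization.AtPrime (Q'.asIdeal.comap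
        (Algebra.TensorProduct.includeRight (R := c.A) (A := c.B) (B := V)).toRingHom)) :=
        IsLocalization.isDomain_localization (Ideal.primeCompl_le_nonZeroDivisors (Q'.asIdeal.comap
          (Algebra.TensorProduct.includeRight (R := c.A) (A := c.B) (B := V)).toRingHom))
      exact isRegular_of_ne_zero hne
    have h1 : algebraMap T (Localization.AtPrime Q'.asIdeal) (ξ y) = 0 := by
      refine (Module.Flat.isTorsionFree (R := Localization.AtPrime (Q'.asIdeal.comap
        (Algebra.TensorProduct.includeRight (R := c.A) (A := c.B) (B := V)).toRingHom))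
        (M := Localization.AtPrime Q'.asIdeal)).isSMulRegular hreg ?_
      refine Eq.trans ?_ (smul_zero _).symm
      refine (Algebra.smul_def _ _).trans ?_
      show ψ _ * _ = 0
      rw [Localization.localRingHom_to_map, ← map_mul]
      exact (congrArg (algebraMap T (Localization.AtPrime Q'.asIdeal)) h0).trans (map_zero _)
    obtain ⟨t, ht⟩ := (IsLocalization.map_eq_zero_iff Q'.asIdeal.primeCompl _ _).1 h1
    refine ⟨θT t.1, t.2, ?_⟩
    rw [smul_self_eq_mul]
    have := congrArg θT ht
    rw [map_mul, hid, map_zero] at this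
    exact this
  haveI := flatAt_of_valFlatAt B qB hM
  -- retract
  let Bq := Localization.AtPrime qB
  haveI : Module.Flat AA Bq := inferInstanceAs (Module.Flat AA (LocalizedModule qB.primeCompl B))
  haveI : Module.Flat c.A AA := IsLocalization.flat AA c.p.asIdeal.primeCompl
  haveI : Module.Flat c.A Bq := Module.Flat.trans c.A AA Bq
  let toBq : c.B →ₐ[c.A] Bq :=
    (IsScalarTower.toAlgHom c.A B Bq).comp (Algebra.TensorProduct.includeRight : c.B →ₐ[c.A] B)
  let u : Sq →ₐ[c.A] Bq := IsLocalization.liftAlgHom (M := c.q.asIdeal.primeCompl) (f := toBq) fun s =>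
    IsLocalization.map_units Bq (⟨(1 : AA) ⊗ₜ[c.A] s.1, fun h => s.2 ((hqS s.1).1 h)⟩ : qB.primeCompl)
  let v : Bq →ₐ[c.A] Sq := IsLocalization.liftAlgHom (M := qB.primeCompl) (f := η) fun s => by
    by_contra hu
    exact s.2 hu
  have hvu : v.comp u = AlgHom.id c.A Sq := by
    apply IsLocalization.algHom_ext c.q.asIdeal.primeCompl
    ext s
    show v (u (algebraMap c.B Sq s)) = algebraMap c.B Sq s
    have h1 : u (algebraMap c.B Sq s) = algebraMap B Bq ((1 : AA) ⊗ₜ[c.A] s) := IsLocalization.lift_eq _ s
    rw [h1]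
    exact (IsLocalization.lift_eq _ _).trans (hηr s)
  exact Module.Flat.of_retract u.toLinearMap v.toLinearMap (congrArg AlgHom.toLinearMap hvu)

end Chart

/-- The valuative criterion of flatness at a point. -/
theorem flat_stalkMap_of_valuative (f : X ⟶ Y) [LocallyOfFiniteType f] (x : X)
    [IsNoetherianRing (Y.presheaf.stalk (f.base x))] [_root_.IsReduced (Y.presheaf.stalk (f.base x))]
    (h : ∀ (V : Type u) [CommRing V] [IsDomain V] [IsDiscreteValuationRing V]
      (g : Spec (CommRingCat.of V) ⟶ Y), g.base (closedPoint V) = f.base x →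
        ∀ x' : ↥(pullback f g), (pullback.fst f g).base x' = x →
          (pullback.snd f g).base x' = closedPoint V → ((pullback.snd f g).stalkMap x').hom.Flat) :
    (f.stalkMap x).hom.Flat := by
  obtain ⟨c⟩ := DimFormulaLib.exists_chart f x
  let e : Y.presheaf.stalk (f.base x) ≅ CommRingCat.of (Localization.AtPrime c.p.asIdeal) :=
    eqToIso (congrArg (fun y => Y.presheaf.stalk y) c.hp.symm) ≪≫ asIso (c.i.stalkMap c.p) ≪≫
      Spec.stalkIso (.of c.A) c.p
  haveI : IsNoetherianRing (Localization.AtPrime c.p.asIdeal) :=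
    isNoetherianRing_of_ringEquiv _ e.commRingCatIsoToRingEquiv
  haveI : _root_.IsReduced (Localization.AtPrime c.p.asIdeal) :=
    isReduced_of_injective e.commRingCatIsoToRingEquiv.symm.toRingHom e.commRingCatIsoToRingEquiv.symm.injective
  exact (flat_stalkMap_iff c).2 (flat_chart_of_valuative c h)

/-- Flatness is stable under base change to discrete valuation rings. -/
theorem flat_snd_of_flat (f : X ⟶ Y) [LocallyOfFiniteType f] (x : X) (hf : (f.stalkMap x).hom.Flat)
    (V : Type u) [CommRing V] [IsDomain V] [IsDiscreteValuationRing V]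
    (g : Spec (CommRingCat.of V) ⟶ Y) (hg : g.base (closedPoint V) = f.base x)
    (x' : ↥(pullback f g)) (hx : (pullback.fst f g).base x' = x)
    (hc : (pullback.snd f g).base x' = closedPoint V) : ((pullback.snd f g).stalkMap x').hom.Flat := by
  obtain ⟨c⟩ := DimFormulaLib.exists_chart f x
  have hFl := (flat_stalkMap_iff c).1 hf
  obtain ⟨φ, hφ, rfl⟩ := exists_localHom g hg
  -- the structure map
  have hrange : Set.range (Spec.map (CommRingCat.ofHom φ) ≫ Y.fromSpecStalk (f.base x)).base ⊆
      Set.range c.i.base := by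
    rintro _ ⟨z, rfl⟩
    have h1 := ((IsLocalRing.specializes_closedPoint z).map
      (Spec.map (CommRingCat.ofHom φ) ≫ Y.fromSpecStalk (f.base x)).continuous)
    rw [localHom_closedPoint φ] at h1
    exact h1.mem_open c.i.isOpenEmbedding.isOpen_range ⟨c.p, c.hp⟩
  let ψ := IsOpenImmersion.lift c.i (Spec.map (CommRingCat.ofHom φ) ≫ Y.fromSpecStalk (f.base x)) hrange
  have hψ : ψ ≫ c.i = Spec.map (CommRingCat.ofHom φ) ≫ Y.fromSpecStalk (f.base x) :=
    IsOpenImmersion.lift_fac _ _ _
  letI : Algebra c.A V := (Spec.preimage ψ).hom.toAlgebra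
  have hψ' : Spec.map (CommRingCat.ofHom (algebraMap c.A V)) ≫ c.i =
      Spec.map (CommRingCat.ofHom φ) ≫ Y.fromSpecStalk (f.base x) := by
    rw [show CommRingCat.ofHom (algebraMap c.A V) = Spec.preimage ψ from rfl, Spec.map_preimage, hψ]
  revert x'
  rw [← hψ']
  intro x' hx hc
  obtain ⟨Q, rfl⟩ : x' ∈ Set.range (affinePt c.i c.j c.w V).base := by
    have hrg : Set.range (⇑(pullbackSpecIso c.A c.B V).inv) = Set.univ :=
      Set.range_eq_univ.2 (Scheme.homeoOfIso (pullbackSpecIso c.A c.B V).symm).surjective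
    rw [affinePt, Scheme.Hom.comp_base, TopCat.coe_comp, Set.range_comp, hrg, Set.image_univ,
      Scheme.Pullback.range_map]
    refine ⟨?_, ?_⟩
    · show (pullback.fst f (Spec.map (CommRingCat.ofHom (algebraMap c.A V)) ≫ c.i)).base x' ∈ Set.range c.j.base
      rw [hx]
      exact ⟨c.q, c.hq⟩
    · exact ⟨_, rfl⟩
  rw [flat_snd_stalkMap_iff]
  let T := c.B ⊗[c.A] V
  let Sq := Localization.AtPrime c.q.asIdeal
  have hlow : Q.asIdeal.comap (Algebra.TensorProduct.includeLeftRingHom : c.B →+* T) = c.q.asIdeal := by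
    rw [← Scheme.Hom.comp_apply, affinePt_fst, Scheme.Hom.comp_apply] at hx
    exact congrArg PrimeSpectrum.asIdeal (c.j.isOpenEmbedding.injective (hx.trans c.hq.symm))
  let P := Q.asIdeal.comap (Algebra.TensorProduct.includeRight (R := c.A) (A := c.B) (B := V)).toRingHom
  let VP := Localization.AtPrime P
  let TQ := Localization.AtPrime Q.asIdeal
  let ψl := Localization.localRingHom P Q.asIdeal
    (Algebra.TensorProduct.includeRight (R := c.A) (A := c.B) (B := V)).toRingHom rfl
  letI : Algebra VP TQ := ψl.toAlgebra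
  show Module.Flat VP TQ
  letI : Algebra V TQ := ((algebraMap T TQ).comp
    (Algebra.TensorProduct.includeRight (R := c.A) (A := c.B) (B := V)).toRingHom).toAlgebra
  haveI : IsScalarTower V VP TQ := .of_algebraMap_eq fun v => (Localization.localRingHom_to_map _ _ _ rfl v).symm
  rw [Module.flat_iff_of_isLocalization VP P.primeCompl]
  suffices Module.IsTorsionFree V TQ from inferInstance
  refine ⟨fun π hπ z z' hzz => sub_eq_zero.1 ?_⟩
  have hd : π • (z - z') = 0 := (smul_sub π z z').trans (sub_eq_zero.2 hzz)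
  generalize z - z' = w at hd
  obtain ⟨a, s, rfl⟩ := IsLocalization.exists_mk'_eq Q.asIdeal.primeCompl w
  rw [IsLocalization.mk'_eq_zero_iff]
  have hd' : algebraMap T TQ ((1 ⊗ₜ π) * a) = 0 := by
    rw [map_mul, ← IsLocalization.mk'_spec TQ a s, ← mul_assoc,
      show algebraMap T TQ ((1 : c.B) ⊗ₜ[c.A] π) * IsLocalization.mk' TQ a s = π • IsLocalization.mk' TQ a s from
        (Algebra.smul_def (R := V) (A := TQ) π (IsLocalization.mk' TQ a s)).symm, hd, zero_mul]
  obtain ⟨t, ht⟩ := (IsLocalization.map_eq_zero_iff Q.asIdeal.primeCompl _ _).1 hd'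
  -- flatness of `S_q` kills the torsion
  have hker : ∀ z : T, ((1 : c.B) ⊗ₜ[c.A] π : T) * z = 0 → ∃ d ∉ Q.asIdeal, d * z = 0 := by
    intro z hz
    let μ : V →ₗ[c.A] V := LinearMap.mulLeft c.A π
    let loc := AlgebraTensorModule.rTensor c.A V ((Algebra.linearMap c.B Sq))
    have hμ : ∀ z : T, μ.lTensor c.B z = ((1 : c.B) ⊗ₜ[c.A] π) * z := fun z => by
      induction z using TensorProduct.induction_on with
      | zero => rw [map_zero, mul_zero]
      | add a b ha hb => rw [map_add, ha, hb, mul_add]
      | tmul a b => simp [μ, T, Algebra.TensorProduct.tmul_mul_tmul]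
    have hcomm : ∀ z : T, μ.lTensor Sq (loc z) = loc (μ.lTensor c.B z) := fun z => by
      induction z using TensorProduct.induction_on with
      | zero => simp only [map_zero]
      | add a b ha hb => simp only [map_add, ha, hb]
      | tmul a b => simp [loc, μ]
    have hinj : Function.Injective (μ.lTensor Sq) := Module.Flat.lTensor_preserves_injective_linearMap μ
      fun v v' hv => mul_left_cancel₀ (hπ.ne_zero) hv
    have h0 : loc z = 0 := hinj (by rw [hcomm, hμ, hz, map_zero, map_zero])
    obtain ⟨c', hc'⟩ := (IsLocalizedModule.eq_zero_iff c.q.asIdeal.primeCompl loc).1 h0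
    refine ⟨c'.1 ⊗ₜ 1, fun hh => c'.2 (hlow.le hh), ?_⟩
    rw [← hc', Submonoid.smul_def, Algebra.smul_def]
    rfl
  obtain ⟨d, hd2, hdz⟩ := hker (t.1 * a) (by rw [mul_left_comm]; exact ht)
  exact ⟨⟨d * t.1, Q.asIdeal.primeCompl.mul_mem hd2 t.2⟩, by rw [mul_assoc]; exact hdz⟩

end Groth.Agent.FlatValLib
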