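import Mathlib

/-!
# Base change of a module to a discrete valuation ring, and torsion freeness at a prime

For an `A`-algebra `B`, a `B`-module `M` and an `A`-algebra `V`, the module `M ⊗[A] V` is a module over
`B ⊗[A] V`.  We record the elementwise notion "`π` is a nonzerodivisor on `M ⊗[A] V` at a prime `Q` of
`B ⊗[A] V`" and its behaviour under base change.
-/

set_option autoImplicit false
set_option linter.style.haveILetI false

open TensorProduct

universe u

namespace Groth.Agent.FlatValLib

variable (A : Type u) [CommRing A] (B : Type u) [CommRing B] [Algebra A B]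
  (V : Type u) [CommRing V] [Algebra A V]
  (M : Type u) [AddCommGroup M] [Module A M] [Module B M] [IsScalarTower A B M]

/-- `M ⊗[A] V` as a module over `B ⊗[A] V`. -/
def MV : Type u :=
  (fun (_ : Module B M) => M ⊗[A] V) ‹_›

instance : AddCommGroup (MV A B V M) := inferInstanceAs (AddCommGroup (M ⊗[A] V))

/-- The action of `B ⊗[A] V` on `M ⊗[A] V`. -/
noncomputable def act : (B ⊗[A] V) →ₐ[A] Module.End A (M ⊗[A] V) :=
  (Module.endTensorEndAlgHom (R := A) (S := A) (A := A) (M := M) (N := V)).comp
    (Algebra.TensorProduct.map (Algebra.lsmul A A M) (Algebra.lsmul A A V))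

noncomputable instance : Module (B ⊗[A] V) (MV A B V M) :=
  Module.compHom (M ⊗[A] V) (act A B V M).toRingHom

variable {A B V M}

variable (A B) in
/-- Pure tensors. -/
noncomputable def MV.mk (m : M) (v : V) : MV A B V M := m ⊗ₜ[A] v

theorem smul_mk (b : B) (v : V) (m : M) (w : V) :
    (b ⊗ₜ[A] v : B ⊗[A] V) • MV.mk A B m w = MV.mk A B (b • m) (v * w) := rfl

@[elab_as_elim]
theorem MV.induction {P : MV A B V M → Prop} (zero : P 0) (mk : ∀ m v, P (MV.mk A B m v))
    (add : ∀ x y, P x → P y → P (x + y)) (x : MV A B V M) : P x :=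
  TensorProduct.induction_on (motive := P) x zero mk add

theorem MV.add_mk (m m' : M) (v : V) : MV.mk A B (m + m') v = MV.mk A B m v + MV.mk A B m' v :=
  TensorProduct.add_tmul _ _ _

theorem MV.mk_add (m : M) (v v' : V) : MV.mk A B m (v + v') = MV.mk A B m v + MV.mk A B m v' :=
  TensorProduct.tmul_add _ _ _

theorem MV.mk_zero (m : M) : MV.mk A B (V := V) m 0 = 0 :=
  TensorProduct.tmul_zero _ _

theorem MV.zero_mk (v : V) : MV.mk A B (M := M) 0 v = 0 :=
  TensorProduct.zero_tmul _ _

theorem MV.finite [Module.Finite B M] : Module.Finite (B ⊗[A] V) (MV A B V M) := by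
  classical
  obtain ⟨s, hs⟩ := (inferInstance : Module.Finite B M).fg_top
  refine ⟨⟨s.image fun m => MV.mk A B m 1, ?_⟩⟩
  rw [eq_top_iff]
  rintro x -
  induction x using MV.induction with
  | zero => exact zero_mem _
  | add x y hx hy => exact add_mem hx hy
  | mk m v =>
    have hm : m ∈ Submodule.span B (s : Set M) := hs ▸ trivial
    induction hm using Submodule.span_induction generalizing v with
    | mem m hm =>
      have : MV.mk A B m v = ((1 : B) ⊗ₜ[A] v) • MV.mk A B m 1 := by
        rw [smul_mk, one_smul, mul_one]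
      rw [this]
      exact Submodule.smul_mem _ _ (Submodule.subset_span
        (Finset.mem_coe.2 (Finset.mem_image_of_mem _ hm)))
    | zero => rw [MV.zero_mk]; exact zero_mem _
    | add a b _ _ ha hb => rw [MV.add_mk]; exact add_mem (ha v) (hb v)
    | smul b a _ ha =>
      have : MV.mk A B (b • a) v = (b ⊗ₜ[A] (1 : V)) • MV.mk A B a v := by
        rw [smul_mk, one_mul]
      rw [this]
      exact Submodule.smul_mem _ _ (ha v)

theorem MV.map_smul_aux {N : Type u} [AddCommGroup N] [Module A N] [Module B N] [IsScalarTower A B N]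
    (φ : MV A B V M →+ MV A B V N)
    (h : ∀ (b : B) (v : V) (m : M) (w : V), φ ((b ⊗ₜ[A] v) • MV.mk A B m w) = (b ⊗ₜ[A] v) • φ (MV.mk A B m w))
    (t : B ⊗[A] V) (x : MV A B V M) : φ (t • x) = t • φ x := by
  induction t using TensorProduct.induction_on with
  | zero => simp
  | add t t' ht ht' => rw [add_smul, add_smul, map_add, ht, ht']
  | tmul b v =>
    induction x using MV.induction with
    | zero => simp
    | add x y hx hy => rw [smul_add, map_add, map_add, hx, hy, smul_add]
    | mk m w => exact h b v m w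

/-- Functoriality in the module. -/
noncomputable def MV.map {N : Type u} [AddCommGroup N] [Module A N] [Module B N] [IsScalarTower A B N]
    (f : M →ₗ[B] N) : MV A B V M →ₗ[B ⊗[A] V] MV A B V N :=
  let φ : MV A B V M →+ MV A B V N := ((f.restrictScalars A).rTensor V).toAddMonoidHom
  { φ with
    map_smul' := MV.map_smul_aux φ fun b v m w => by
      show f (b • m) ⊗ₜ[A] (v * w) = (b • f m) ⊗ₜ[A] (v * w)
      rw [map_smul] }

theorem MV.map_mk {N : Type u} [AddCommGroup N] [Module A N] [Module B N] [IsScalarTower A B N]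
    (f : M →ₗ[B] N) (m : M) (v : V) : MV.map f (MV.mk A B m v) = MV.mk A B (f m) v := rfl

variable (A B M) in
/-- Torsion freeness of all base changes to discrete valuation rings at primes over `q` and the closed
point. -/
def ValFlatAt (q : Ideal B) : Prop :=
  ∀ (V : Type u) [CommRing V] [IsDomain V] [IsDiscreteValuationRing V] [Algebra A V]
    (Q : Ideal (B ⊗[A] V)) [Q.IsPrime],
    Q.comap (Algebra.TensorProduct.includeLeft : B →ₐ[A] B ⊗[A] V).toRingHom = q →
    Q.comap (Algebra.TensorProduct.includeRight : V →ₐ[A] B ⊗[A] V).toRingHom = IsLocalRing.maximalIdeal V →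
    ∀ π : V, Irreducible π → ∀ y : MV A B V M,
      ((1 : B) ⊗ₜ[A] π) • y = 0 → ∃ t ∉ Q, t • y = 0

section Regular

variable {R : Type u} [CommRing R] {F N : Type u} [AddCommGroup F] [Module R F] [AddCommGroup N] [Module R N]

/-- If `π ∈ Q`, `π` is regular on `N` at `Q` and `f` is injective modulo `π` at `Q`, then `f` is injective at
`Q` and `π` is regular on the cokernel at `Q`. -/
theorem injective_and_regular_of_mod [IsNoetherianRing R] [Module.Finite R F] (Q : Ideal R) [Q.IsPrime]
    (π : R) (hπ : π ∈ Q) (f : F →ₗ[R] N) (hN : ∀ y : N, π • y = 0 → ∃ t ∉ Q, t • y = 0)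
    (hf : ∀ (z : F) (y : N), f z = π • y → ∃ t ∉ Q, ∃ w, t • z = π • w) :
    (∀ z : F, f z = 0 → ∃ t ∉ Q, t • z = 0) ∧
      ∀ y : N, π • y ∈ LinearMap.range f → ∃ t ∉ Q, t • y ∈ LinearMap.range f := by
  constructor
  · intro z hz
    let K := LinearMap.ker f
    have key : ∀ k ∈ K, ∃ t ∉ Q, ∃ w ∈ K, t • k = π • w := by
      intro k hk
      obtain ⟨t, ht, w, hw⟩ := hf k 0 (by rw [smul_zero]; exact hk)
      obtain ⟨t', ht', hw'⟩ := hN (f w)
        (by rw [← map_smul, ← hw, map_smul, LinearMap.mem_ker.1 hk, smul_zero])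
      refine ⟨t' * t, fun h => (‹Q.IsPrime›.mem_or_mem h).elim ht' ht, t' • w, ?_, ?_⟩
      · rw [LinearMap.mem_ker, map_smul, hw']
      · rw [mul_smul, hw, smul_comm]
    haveI : IsNoetherian R F := inferInstance
    -- localise
    let g := LocalizedModule.mkLinearMap Q.primeCompl K
    haveI : Module.Finite (Localization.AtPrime Q) (LocalizedModule Q.primeCompl K) :=
      Module.Finite.of_isLocalizedModule Q.primeCompl g
    have hbot : (⊤ : Submodule (Localization.AtPrime Q) (LocalizedModule Q.primeCompl K)) = ⊥ := by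
      refine Submodule.eq_bot_of_le_smul_of_le_jacobson_bot (IsLocalRing.maximalIdeal _) ⊤
        Module.Finite.fg_top (fun x _ => ?_) (IsLocalRing.maximalIdeal_le_jacobson _)
      induction x using LocalizedModule.induction_on with
      | h k s =>
        obtain ⟨t, ht, w, hw, hkw⟩ := key k.1 k.2
        have e : LocalizedModule.mk k s =
            (Localization.mk π ⟨t * s, (Q.primeCompl).mul_mem ht s.2⟩ : Localization.AtPrime Q) •
              LocalizedModule.mk (⟨w, hw⟩ : K) (1 : Q.primeCompl) := by
          rw [LocalizedModule.mk_smul_mk, mul_one]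
          refine LocalizedModule.mk_eq.2 ⟨1, ?_⟩
          simp only [one_smul]
          refine Subtype.ext ?_
          show (t * s.1) • k.1 = s.1 • π • w
          rw [mul_comm, mul_smul, hkw]
        rw [e]
        refine Submodule.smul_mem_smul ?_ trivial
        rw [Localization.mk_eq_mk']
        exact (IsLocalization.AtPrime.mk'_mem_maximal_iff (Localization.AtPrime Q) Q π _).2 hπ
    have hz0 : LocalizedModule.mk (⟨z, hz⟩ : K) (1 : Q.primeCompl) = 0 :=
      (Submodule.eq_bot_iff _).1 hbot _ trivial
    obtain ⟨t, ht⟩ := LocalizedModule.mk_eq.1 (hz0.trans (LocalizedModule.zero_mk (1 : Q.primeCompl)).symm)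
    refine ⟨t.1, t.2, ?_⟩
    have h' := congrArg Subtype.val ht
    simp only [one_smul, smul_zero, Submodule.coe_smul_of_tower, ZeroMemClass.coe_zero] at h'
    exact h'
  · intro y ⟨z, hz⟩
    obtain ⟨t, ht, w, hw⟩ := hf z y hz
    have h0 : π • (t • y - f w) = 0 := by
      rw [smul_sub, smul_comm, ← hz, ← map_smul, ← map_smul, hw, sub_self]
    obtain ⟨t', ht', h⟩ := hN _ h0
    refine ⟨t' * t, fun h => (‹Q.IsPrime›.mem_or_mem h).elim ht' ht, t' • w, ?_⟩
    rw [map_smul, mul_smul, eq_comm, ← sub_eq_zero, ← smul_sub, h]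

end Regular

end Groth.Agent.FlatValLib
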