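import Groth.Agent.FlatValLib.Fibre
import Groth.Agent.DomDVR.Dominate
import Groth.Agent.DimFormulaLib.Misc
import Groth.Agent.CAlgBasics.FlatAux

/-!
# The inductive step: reduction to the cokernel of a lifted basis
-/

set_option autoImplicit false
set_option linter.style.haveILetI false

open TensorProduct

universe u

namespace Groth.Agent.FlatValLib

variable (A : Type u) [CommRing A] (B : Type u) [CommRing B] [Algebra A B]
  (M : Type u) [AddCommGroup M] [Module B M]

/-- All points of the support in the fibre generising `q` have transcendence degree `< d`. -/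
def FibreLT (q : Ideal B) (d : ℕ) : Prop :=
  ∀ P : PrimeSpectrum B, P.asIdeal ≤ q → P.asIdeal.under A = q.under A → P ∈ Module.support B M →
    ∀ t : ℕ, Algebra.trdeg (A ⧸ P.asIdeal.under A) (B ⧸ P.asIdeal) = t → t < d

variable {A B M}
variable {C : Type u} [CommRing C] [Algebra A C]

/-- A reduced local ring: an element lying in all primes below `n` is killed outside `n`. -/
theorem exists_notMem_mul_eq_zero [IsReduced C] (n : Ideal C) [n.IsPrime] (z : C)
    (h : ∀ P : Ideal C, P.IsPrime → P ≤ n → z ∈ P) : ∃ t ∉ n, t * z = 0 := by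
  have h0 : algebraMap C (Localization.AtPrime n) z = 0 := by
    refine IsReduced.eq_zero _ (nilpotent_iff_mem_prime.2 fun J hJ => ?_)
    exact h _ (hJ.comap _) (fun x hx => by
      by_contra hxn
      exact hJ.ne_top (J.eq_top_of_isUnit_mem hx
        (IsLocalization.map_units (Localization.AtPrime n) (⟨x, hxn⟩ : n.primeCompl))))
  obtain ⟨t, ht⟩ := (IsLocalization.map_eq_zero_iff n.primeCompl _ z).1 h0
  exact ⟨t.1, t.2, ht⟩

variable [IsNoetherianRing A] [Algebra.FiniteType A C] [IsReduced C]
  {M : Type u} [AddCommGroup M] [Module A M] [Module C M] [IsScalarTower A C M] [Module.Finite C M]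

/-- Injectivity at `n` of a map from a free module which is injective on the fibre. -/
theorem exists_smul_eq_zero_of_valFlatAt {r : ℕ} (m : Fin r → M) (n : Ideal C) [n.IsPrime] (p : Ideal A)
    [p.IsPrime] (hp : p = n.under A) (c : C) (hcn : c ∉ n)
    (hc : ∀ z : Fin r → C ⊗[A] p.ResidueField, φF C m (C ⊗[A] p.ResidueField) z = 0 → c • z = 0)
    (hM : ValFlatAt A C M n) (z : Fin r → C) (hz : Fintype.linearCombination C m z = 0) :
    ∃ t ∉ n, t • z = 0 := by
  classical
  rw [Fintype.linearCombination_apply] at hz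
  have hi : ∀ i, ∃ t ∉ n, t * z i = 0 := fun i => by
    refine exists_notMem_mul_eq_zero n (z i) fun P hP hPn => ?_
    by_cases hPe : P = n
    · subst hPe
      have h1 : φF C m (C ⊗[A] p.ResidueField) (fun i => z i ⊗ₜ[A] (1 : p.ResidueField)) = 0 := by
        rw [φF_apply]
        have e : ∀ i, (z i ⊗ₜ[A] (1 : p.ResidueField)) ⊗ₜ[C] m i =
            (1 : C ⊗[A] p.ResidueField) ⊗ₜ[C] (z i • m i) := fun i => by
          rw [← TensorProduct.smul_tmul]
          congr 1
          rw [Algebra.TensorProduct.one_def, TensorProduct.smul_tmul', smul_eq_mul, mul_one]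
        simp_rw [e, ← TensorProduct.tmul_sum, hz, TensorProduct.tmul_zero]
      have h2 := congrFun (hc _ h1) i
      simp only [Pi.smul_apply, Pi.zero_apply, TensorProduct.smul_tmul', smul_eq_mul] at h2
      exact ((Ideal.IsPrime.mem_or_mem inferInstance (mem_of_tmul_eq_zero P hp _ h2)).resolve_left hcn)
    · haveI : IsNoetherianRing C := Algebra.FiniteType.isNoetherianRing A C
      obtain ⟨W, _, _, _, ψ, hker, hmax⟩ := DomDVR.exists_dvr_specialization P n (lt_of_le_of_ne hPn hPe)
      letI : Algebra A W := (ψ.comp (algebraMap A C)).toAlgebra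
      let ψₐ : C →ₐ[A] W := { ψ with commutes' := fun a => rfl }
      let ρ : C ⊗[A] W →ₐ[A] W := Algebra.TensorProduct.lift ψₐ (AlgHom.id A W) fun _ _ => Commute.all _ _
      let Q : Ideal (C ⊗[A] W) := (IsLocalRing.maximalIdeal W).comap ρ.toRingHom
      have hρl : ∀ x : C, ρ (x ⊗ₜ 1) = ψ x := fun x => by simp [ρ, ψₐ]
      have hρr : ∀ x : W, ρ (1 ⊗ₜ x) = x := fun x => by simp [ρ]
      obtain ⟨_, hinj⟩ := valFlatAt_coker m hp c hcn hc hM
      obtain ⟨t, ht, htz⟩ := hinj W Q
        (by rw [← hmax]; ext x; simp [Q, hρl]) (by ext x; simp [Q, hρr])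
        (fun i => z i ⊗ₜ 1) (by rw [φV_tmul, hz, MV.zero_mk])
      have h3 := congrArg ρ (congrFun htz i)
      simp only [Pi.smul_apply, smul_eq_mul, map_mul, hρl, Pi.zero_apply, map_zero] at h3
      rw [← hker, RingHom.mem_ker]
      exact (mul_eq_zero.1 h3).resolve_left fun h => ht (show ρ t ∈ IsLocalRing.maximalIdeal W by
        rw [h]; exact zero_mem _)
  choose t ht htz using hi
  refine ⟨∏ i, t i, fun h => ?_, funext fun i => ?_⟩
  · obtain ⟨i, -, hi⟩ := (‹n.IsPrime›.prod_mem_iff).1 h
    exact ht i hi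
  · rw [Pi.smul_apply, Pi.zero_apply, smul_eq_mul, ← Finset.prod_erase_mul _ _ (Finset.mem_univ i),
      mul_assoc, htz, mul_zero]

/-- The inductive step. -/
theorem flat_step [Module.Flat A C] (n : Ideal C) [n.IsPrime] (p : Ideal A) [p.IsPrime] (hp : p = n.under A)
    (N : Ideal (C ⊗[A] p.ResidueField)) [N.IsPrime]
    (hN : N.comap (Algebra.TensorProduct.includeLeft : C →ₐ[A] C ⊗[A] p.ResidueField).toRingHom = n)
    [IsDomain (Localization.AtPrime N)] (D : ℕ)
    (hD : ∀ P : PrimeSpectrum C, P.asIdeal ≤ n → P.asIdeal.under A = n.under A →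
      ∀ t : ℕ, Algebra.trdeg (A ⧸ P.asIdeal.under A) (C ⧸ P.asIdeal) = t → t ≤ D)
    (hM : ValFlatAt A C M n)
    (IH : ∀ (Q : Type u) [AddCommGroup Q] [Module A Q] [Module C Q] [IsScalarTower A C Q] [Module.Finite C Q],
      ValFlatAt A C Q n → FibreLT A C Q n D → Module.Flat A (LocalizedModule n.primeCompl Q)) :
    Module.Flat A (LocalizedModule n.primeCompl M) := by
  classical
  let F := C ⊗[A] p.ResidueField
  haveI : IsNoetherianRing C := Algebra.FiniteType.isNoetherianRing A C
  haveI : Algebra.FiniteType p.ResidueField (p.ResidueField ⊗[A] C) := inferInstance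
  haveI : IsNoetherianRing (p.ResidueField ⊗[A] C) := Algebra.FiniteType.isNoetherianRing p.ResidueField _
  haveI : IsNoetherianRing F :=
    isNoetherianRing_of_ringEquiv _ (Algebra.TensorProduct.comm A p.ResidueField C).toRingEquiv
  -- the generic point of the fibre through `n`
  let P0 : Ideal F := RingHom.ker (algebraMap F (Localization.AtPrime N))
  haveI : P0.IsPrime := RingHom.ker_isPrime _
  let Pg : Ideal C := P0.comap (Algebra.TensorProduct.includeLeft : C →ₐ[A] F).toRingHom
  haveI : Pg.IsPrime := Ideal.comap_isPrime _ P0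
  have hP0N : P0 ≤ N := fun x hx => by
    by_contra hxN
    have hu := IsLocalization.map_units (Localization.AtPrime N) (⟨x, hxN⟩ : N.primeCompl)
    rw [RingHom.mem_ker.1 hx] at hu
    exact not_isUnit_zero hu
  have hP0 : ∀ x ∈ P0, ∃ (s : C), s ∉ n ∧ (s ⊗ₜ[A] 1 : F) * x = 0 := fun x hx => by
    obtain ⟨s, hs⟩ := (IsLocalization.map_eq_zero_iff N.primeCompl _ x).1 (RingHom.mem_ker.1 hx)
    obtain ⟨e, d, he, hd⟩ := exists_unit_mul s.1
    exact ⟨d, hN ▸ notMem_of_isUnit_mul N s.2 he d hd, tmul_one_mul_eq_zero_of_mul e d hd hs⟩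
  have hPgn : Pg ≤ n := hN ▸ Ideal.comap_mono hP0N
  have hPgp : p = Pg.under A := by
    refine le_antisymm (fun a ha => ?_) (hp ▸ Ideal.comap_mono hPgn)
    show (algebraMap A C a ⊗ₜ[A] 1 : F) ∈ P0
    rw [Algebra.algebraMap_eq_smul_one, TensorProduct.smul_tmul, ← Algebra.algebraMap_eq_smul_one,
      Ideal.algebraMap_residueField_eq_zero.2 ha, TensorProduct.tmul_zero]
    exact zero_mem _
  have hmin : ∀ P : Ideal C, P.IsPrime → P ≤ n → P.under A = n.under A → Pg ≤ P := by
    intro P hP hPn hPp x hx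
    obtain ⟨s, hs, hsx⟩ := hP0 _ hx
    have h0 : ((s * x) ⊗ₜ[A] (1 : p.ResidueField) : F) = 0 := by
      rw [← hsx]
      simp [F, Algebra.TensorProduct.tmul_mul_tmul]
    exact (hP.mem_or_mem (mem_of_tmul_eq_zero P (hp.trans hPp.symm) _ h0)).resolve_left
      fun h => hs (hPn h)
  -- a lifted basis
  let Kg := Pg.ResidueField
  let T : Set (Kg ⊗[C] M) := Set.range fun x => (1 : Kg) ⊗ₜ[C] x
  have hspan : Submodule.span Kg T = ⊤ := by
    rw [eq_top_iff]
    rintro z -
    induction z using TensorProduct.induction_on with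
    | zero => exact zero_mem _
    | add a b ha hb => exact add_mem ha hb
    | tmul k x =>
      rw [show k ⊗ₜ[C] x = k • ((1 : Kg) ⊗ₜ[C] x) by rw [TensorProduct.smul_tmul', smul_eq_mul, mul_one]]
      exact Submodule.smul_mem _ _ (Submodule.subset_span ⟨x, rfl⟩)
  obtain ⟨bs, hbs, hbspan, hbli⟩ := exists_linearIndependent Kg T
  rw [hspan] at hbspan
  haveI : Finite bs := hbli.finite
  obtain ⟨r, ⟨eb⟩⟩ := Finite.exists_equiv_fin bs
  choose m hm using fun i => hbs (eb.symm i).2
  have hmli : LinearIndependent Kg (fun i => (1 : Kg) ⊗ₜ[C] m i) := by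
    have : (fun i => (1 : Kg) ⊗ₜ[C] m i) = fun i => ((eb.symm i : bs) : Kg ⊗[C] M) := funext hm
    rw [this]
    exact hbli.comp _ eb.symm.injective
  -- injectivity on the fibre
  let ev : F →ₐ[C] Kg := Algebra.TensorProduct.lift (Algebra.ofId C Kg)
    (Ideal.ResidueField.mapₐ p Pg (Algebra.ofId A C) hPgp) fun _ _ => Commute.all _ _
  have hev : ∀ x, ev x = 0 → x ∈ P0 := fun x hx => by
    obtain ⟨e, d, he, hd⟩ := exists_unit_mul x
    have h1 := congrArg ev hd
    rw [map_mul, hx, mul_zero] at h1
    have h2 : d ∈ Pg := Ideal.algebraMap_residueField_eq_zero.1 (by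
      have : ev (d ⊗ₜ 1) = algebraMap C Kg d := by
        simp only [ev]
        rw [Algebra.TensorProduct.lift_tmul, map_one, mul_one, Algebra.ofId_apply]
      rw [← this]; exact h1.symm)
    have h3 : e * x ∈ P0 := hd ▸ h2
    exact (Ideal.IsPrime.mem_or_mem inferInstance h3).resolve_left fun h =>
      Ideal.IsPrime.ne_top inferInstance (P0.eq_top_of_isUnit_mem h he)
  have hkills : ∀ z : Fin r → F, φF C m F z = 0 → ∃ c ∉ n, c • z = 0 := fun z hz => by
    have h1 := φF_map m ev.toLinearMap z hz
    rw [φF, Fintype.linearCombination_apply] at h1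
    have h2 : ∀ i, z i ∈ P0 := fun i => hev _ (Fintype.linearIndependent_iff.1 hmli _ h1 i)
    choose s hs hsz using fun i => hP0 _ (h2 i)
    refine ⟨∏ i, s i, fun h => ?_, funext fun i => ?_⟩
    · obtain ⟨i, -, hi⟩ := (‹n.IsPrime›.prod_mem_iff).1 h
      exact hs i hi
    · rw [Pi.smul_apply, Pi.zero_apply, ← Finset.prod_erase_mul _ _ (Finset.mem_univ i), mul_smul,
        Algebra.smul_def (s i)]
      exact smul_eq_zero_of_right _ (hsz i)
  obtain ⟨G, hG⟩ := (IsNoetherian.noetherian (LinearMap.ker (φF C m F)) :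
    (LinearMap.ker (φF C m F)).FG)
  choose cc hcc hccz using fun z : G => hkills z.1 (hG.le (Submodule.subset_span z.2))
  obtain ⟨c, hcn, hc⟩ : ∃ c ∉ n, ∀ z : Fin r → F, φF C m F z = 0 → c • z = 0 := by
    refine ⟨∏ z, cc z, fun h => ?_, fun z hz => ?_⟩
    · obtain ⟨i, -, hi⟩ := (‹n.IsPrime›.prod_mem_iff).1 h
      exact hcc i hi
    · have hz' : z ∈ Submodule.span F (G : Set (Fin r → F)) := hG.ge hz
      clear hz
      induction hz' using Submodule.span_induction with
      | mem x hx =>
        rw [← Finset.prod_erase_mul _ _ (Finset.mem_univ (⟨x, hx⟩ : G)), mul_smul, hccz]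
        exact smul_zero _
      | zero => exact smul_zero _
      | add a b _ _ ha hb => rw [smul_add, ha, hb, add_zero]
      | smul a b _ hb => rw [smul_comm, hb, smul_zero]
  let φ := Fintype.linearCombination C m
  -- the cokernel
  have hQ : ValFlatAt A C (M ⧸ LinearMap.range φ) n := (valFlatAt_coker m hp c hcn hc hM).1
  have hnPg : (⟨Pg, inferInstance⟩ : PrimeSpectrum C) ∉ Module.support C (M ⧸ LinearMap.range φ) := by
    rw [Module.mem_support_iff_nontrivial_residueField_tensorProduct, not_nontrivial_iff_subsingleton]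
    refine ⟨fun a b => ?_⟩
    have h0 : ∀ w : Kg ⊗[C] (M ⧸ LinearMap.range φ), w = 0 := fun w => by
      obtain ⟨w, rfl⟩ := LinearMap.lTensor_surjective Kg
        (g := (LinearMap.range φ).mkQ) (Submodule.mkQ_surjective _) w
      have hw : w ∈ Submodule.span Kg bs := hbspan ▸ trivial
      induction hw using Submodule.span_induction with
      | mem x hx =>
        obtain ⟨i, hi⟩ := eb.symm.surjective ⟨x, hx⟩
        have hxm : x = (1 : Kg) ⊗ₜ[C] m i := (congrArg Subtype.val hi).symm.trans (hm i).symm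
        rw [hxm, LinearMap.lTensor_tmul,
          show (LinearMap.range φ).mkQ (m i) = 0 from (Submodule.Quotient.mk_eq_zero _).2
            ⟨Pi.single i 1, by simp [φ, Fintype.linearCombination_apply_single]⟩, TensorProduct.tmul_zero]
      | zero => exact map_zero _
      | add a b _ _ ha hb => rw [map_add, ha, hb, add_zero]
      | smul a b _ hb =>
        have : AlgebraTensorModule.lTensor Kg Kg (LinearMap.range φ).mkQ (a • b) =
            a • AlgebraTensorModule.lTensor Kg Kg (LinearMap.range φ).mkQ b := map_smul _ _ _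
        exact this.trans ((congrArg (a • ·) hb).trans (smul_zero _))
    exact (h0 a).trans (h0 b).symm
  haveI := IH (M ⧸ LinearMap.range φ) hQ fun P hPn hPp hPs t ht => by
    have hle := hmin P.asIdeal P.isPrime hPn hPp
    have hlt : (⟨Pg, inferInstance⟩ : PrimeSpectrum C) < P :=
      lt_of_le_of_ne hle fun h => hnPg (h ▸ hPs)
    obtain ⟨t₀, ht₀⟩ := DimFormulaLib.exists_nat_trdeg_quotient_pair (A := A)
      (⟨Pg, inferInstance⟩ : PrimeSpectrum C)
    have h1 := DimFormulaLib.trdeg_lt_of_lt_in_fibre' hlt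
      (PrimeSpectrum.ext (hPgp.symm.trans (hp.trans hPp.symm))) t₀ t ht₀ ht
    exact lt_of_lt_of_le h1 (hD ⟨Pg, inferInstance⟩ hPgn (hPgp.symm.trans hp) t₀ ht₀)
  haveI : Module.Flat A (Π₀ _ : Fin r, C) := inferInstance
  haveI : Module.Flat A (Fin r → C) :=
    Module.Flat.of_linearEquiv (DFinsupp.linearEquivFunOnFintype (R := A) (ι := Fin r) (M := fun _ : Fin r => C)).symm
  haveI : Module.Flat A (LocalizedModule n.primeCompl (Fin r → C)) := flat_localizedModule _
  -- the exact sequence
  refine CAlgBasics.flat_of_exact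
    (f := (LocalizedModule.map n.primeCompl φ).restrictScalars A)
    (g := (LocalizedModule.map n.primeCompl (LinearMap.range φ).mkQ).restrictScalars A) ?_ ?_ ?_
  · rw [injective_iff_map_eq_zero]
    intro x hx
    induction x using LocalizedModule.induction_on with
    | h z s =>
      rw [LinearMap.restrictScalars_apply, LocalizedModule.map_mk] at hx
      obtain ⟨t, ht⟩ := LocalizedModule.mk_eq.1 (hx.trans (LocalizedModule.zero_mk s).symm)
      simp only [smul_zero, ← mul_smul] at ht
      rw [Submonoid.smul_def, ← map_smul] at ht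
      obtain ⟨t', ht', h⟩ := exists_smul_eq_zero_of_valFlatAt m n p hp c hcn hc hM _ ht
      refine (LocalizedModule.mk_eq.2 ⟨⟨t' * (t * s).1, n.primeCompl.mul_mem ht' (t * s).2⟩, ?_⟩).trans
        (LocalizedModule.zero_mk 1)
      simp only [smul_zero, one_smul]
      rw [Submonoid.smul_def, mul_smul, h]
  · exact LocalizedModule.map_exact n.primeCompl _ _ (LinearMap.exact_map_mkQ_range φ)
  · exact LocalizedModule.map_surjective n.primeCompl _ (Submodule.mkQ_surjective _)

end Groth.Agent.FlatValLib
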