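import Groth.Agent.FlatValLib.Core
import Groth.Agent.DimFormulaLib.Fibre
import Groth.Agent.Unibranch.Normal
import Groth.Agent.EtaleLib.Reduced

/-!
# The valuative criterion of flatness
-/

set_option autoImplicit false
set_option linter.style.haveILetI false

open TensorProduct

universe u

namespace Groth.Agent.FlatValLib

variable {A : Type u} [CommRing A] [IsNoetherianRing A]

attribute [local instance] Algebra.TensorProduct.rightAlgebra MvPolynomial.algebraMvPolynomial

omit [IsNoetherianRing A] in
/-- Fibres of étale algebras over a polynomial ring are locally domains. -/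
theorem exists_prime_fibre (n : ℕ) {C : Type u} [CommRing C] [Algebra A C]
    [Algebra (MvPolynomial (Fin n) A) C] [IsScalarTower A (MvPolynomial (Fin n) A) C]
    [Algebra.Etale (MvPolynomial (Fin n) A) C] (nC : Ideal C) [nC.IsPrime] (p : Ideal A) [p.IsPrime]
    (hp : p = nC.under A) :
    ∃ (N : Ideal (C ⊗[A] p.ResidueField)) (_ : N.IsPrime),
      N.comap (Algebra.TensorProduct.includeLeft : C →ₐ[A] C ⊗[A] p.ResidueField).toRingHom = nC ∧
      IsDomain (Localization.AtPrime N) := by
  let κ := p.ResidueField
  let F := C ⊗[A] κ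
  let ev : F →ₐ[A] nC.ResidueField := Algebra.TensorProduct.lift (IsScalarTower.toAlgHom A C nC.ResidueField)
    (Ideal.ResidueField.mapₐ p nC (Algebra.ofId A C) hp) fun _ _ => Commute.all _ _
  let N : Ideal F := RingHom.ker ev
  haveI : N.IsPrime := RingHom.ker_isPrime _
  refine ⟨N, inferInstance, ?_, ?_⟩
  · ext x
    have : ev (x ⊗ₜ 1) = algebraMap C nC.ResidueField x := by
      simp only [ev]
      rw [Algebra.TensorProduct.lift_tmul, map_one, mul_one, IsScalarTower.toAlgHom_apply]
    simp [N, RingHom.mem_ker, this]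
  let T := MvPolynomial (Fin n) A
  let G := MvPolynomial (Fin n) κ
  let g : G →ₐ[κ] F := MvPolynomial.aeval fun i => algebraMap T C (MvPolynomial.X i) ⊗ₜ[A] (1 : κ)
  letI : Algebra G F := g.toRingHom.toAlgebra
  haveI : IsScalarTower κ G F := .of_algebraMap_eq fun a => (g.commutes a).symm
  haveI : IsScalarTower T G F := .of_algebraMap_eq' (by
    refine MvPolynomial.ringHom_ext (fun a => ?_) fun i => ?_
    · have h1 : algebraMap T F (MvPolynomial.C a) = algebraMap T C (MvPolynomial.C a) ⊗ₜ[A] (1 : κ) := rfl
      rw [h1, RingHom.comp_apply,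
        show algebraMap T G (MvPolynomial.C a) = MvPolynomial.C (algebraMap A κ a) from MvPolynomial.map_C _ _,
        show algebraMap G F (MvPolynomial.C (algebraMap A κ a)) = g (MvPolynomial.C (algebraMap A κ a)) from rfl,
        MvPolynomial.aeval_C,
        show algebraMap T C (MvPolynomial.C a) = algebraMap A C a from
          (IsScalarTower.algebraMap_apply A T C a).symm,
        Algebra.algebraMap_eq_smul_one, TensorProduct.smul_tmul, ← Algebra.algebraMap_eq_smul_one]
      rfl
    · have h1 : algebraMap T F (MvPolynomial.X i) = algebraMap T C (MvPolynomial.X i) ⊗ₜ[A] (1 : κ) := rfl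
      rw [h1, RingHom.comp_apply,
        show algebraMap T G (MvPolynomial.X i) = MvPolynomial.X i from MvPolynomial.map_X _ _,
        show algebraMap G F (MvPolynomial.X i) = g (MvPolynomial.X i) from rfl, MvPolynomial.aeval_X])
  haveI : IsScalarTower A G F := .of_algebraMap_eq fun a => by
    rw [IsScalarTower.algebraMap_apply A κ G, ← IsScalarTower.algebraMap_apply κ G F,
      ← IsScalarTower.algebraMap_apply A κ F]
  haveI : Algebra.IsPushout T C G F := (Algebra.IsPushout.comp_iff A T κ G (T := C) (T' := F)).1 inferInstance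
  haveI : Algebra.IsPushout T G C F := Algebra.IsPushout.symm inferInstance
  haveI : Algebra.Etale G F := Algebra.Etale.of_equiv (Algebra.IsPushout.equiv T G C F)
  exact (Unibranch.isDomain_isIntegrallyClosed_of_etale (A := G) (B := F) N).1

/-- Flatness descends along a flat algebra with a prime over the given one. -/
theorem flat_of_flat_baseChange {B L : Type u} [CommRing B] [CommRing L] [Algebra A B] [Algebra A L]
    [Algebra B L] [IsScalarTower A B L] [Module.Flat B L] (q : Ideal B) [q.IsPrime] (q' : Ideal L) [q'.IsPrime]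
    (hq : q'.comap (algebraMap B L) = q) (M : Type u) [AddCommGroup M] [Module A M] [Module B M]
    [IsScalarTower A B M] [Module.Flat A (LocalizedModule q'.primeCompl (L ⊗[B] M))] :
    Module.Flat A (LocalizedModule q.primeCompl M) := by
  let Bq := Localization.AtPrime q
  let Lq := Localization.AtPrime q'
  let φ : Bq →+* Lq := Localization.localRingHom q q' (algebraMap B L) hq.symm
  letI : Algebra Bq Lq := φ.toAlgebra
  haveI : IsLocalHom (algebraMap Bq Lq) := Localization.isLocalHom_localRingHom q q' (algebraMap B L) hq.symm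
  haveI : IsScalarTower B Bq Lq := .of_algebraMap_eq fun x => by
    show algebraMap B Lq x = φ (algebraMap B Bq x)
    rw [Localization.localRingHom_to_map, ← IsScalarTower.algebraMap_apply]
  haveI : IsScalarTower A Bq Lq := .of_algebraMap_eq fun a => by
    rw [IsScalarTower.algebraMap_apply A B Bq, ← IsScalarTower.algebraMap_apply B Bq Lq,
      IsScalarTower.algebraMap_apply A L Lq, IsScalarTower.algebraMap_apply A B L,
      ← IsScalarTower.algebraMap_apply B L Lq]
  haveI : Module.Flat B Lq := Module.Flat.trans B L Lq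
  haveI : Module.Flat Bq Lq := (Module.flat_iff_of_isLocalization Bq q.primeCompl (M := Lq)).2 inferInstance
  haveI : Module.FaithfullyFlat Bq Lq := Module.FaithfullyFlat.of_flat_of_isLocalHom
  let Mq := LocalizedModule q.primeCompl M
  let e₁ : Lq ⊗[Bq] Mq ≃ₗ[Lq] Lq ⊗[B] M :=
    AlgebraTensorModule.congr (LinearEquiv.refl Lq Lq) (LocalizedModule.equivTensorProduct q.primeCompl M) ≪≫ₗ
      AlgebraTensorModule.cancelBaseChange B Bq Lq Lq M
  let e₂ : LocalizedModule q'.primeCompl (L ⊗[B] M) ≃ₗ[Lq] Lq ⊗[B] M :=
    LocalizedModule.equivTensorProduct q'.primeCompl (L ⊗[B] M) ≪≫ₗ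
      AlgebraTensorModule.cancelBaseChange B L Lq Lq M
  haveI : Module.Flat A (Lq ⊗[Bq] Mq) :=
    Module.Flat.of_linearEquiv ((e₁ ≪≫ₗ e₂.symm).restrictScalars A)
  rw [Module.Flat.iff_lTensor_injective']
  intro I
  refine (Module.FaithfullyFlat.lTensor_injective_iff_injective Bq Lq
    (AlgebraTensorModule.lTensor Bq Mq I.subtype)).mp ?_
  let f : (Lq ⊗[Bq] Mq) ⊗[A] I →ₗ[Bq] (Lq ⊗[Bq] Mq) ⊗[A] A :=
    AlgebraTensorModule.lTensor Bq (Lq ⊗[Bq] Mq) I.subtype
  have hf : Function.Injective f :=
    Module.Flat.lTensor_preserves_injective_linearMap I.subtype I.subtype_injective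
  have h : ((AlgebraTensorModule.assoc A Bq Bq Lq Mq A).toLinearMap ∘ₗ f) =
      (AlgebraTensorModule.lTensor Bq Mq I.subtype).lTensor Lq ∘ₗ
        (AlgebraTensorModule.assoc A Bq Bq Lq Mq I).toLinearMap := by
    ext x y z
    rfl
  intro x y hxy
  obtain ⟨x, rfl⟩ := (AlgebraTensorModule.assoc A Bq Bq Lq Mq I).surjective x
  obtain ⟨y, rfl⟩ := (AlgebraTensorModule.assoc A Bq Bq Lq Mq I).surjective y
  congr 1
  apply hf
  apply (AlgebraTensorModule.assoc A Bq Bq Lq Mq A).injective
  exact (LinearMap.congr_fun h x).trans (hxy.trans (LinearMap.congr_fun h y).symm)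

/-- A further localisation of a flat localised module is flat. -/
theorem flat_localizedModule_of_comap {C L : Type u} [CommRing C] [CommRing L] [Algebra A C] [Algebra A L]
    [Algebra C L] [IsScalarTower A C L] [Algebra.IsIntegral C L] (n : Ideal C) [n.IsPrime]
    (q' : Ideal L) [q'.IsPrime] (hq : q'.comap (algebraMap C L) = n)
    (M : Type u) [AddCommGroup M] [Module A M] [Module C M] [Module L M] [IsScalarTower A C M]
    [IsScalarTower A L M] [IsScalarTower C L M] [Module.Flat A (LocalizedModule n.primeCompl M)] :
    Module.Flat A (LocalizedModule q'.primeCompl M) := by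
  -- `M` localised at `q'` as a further localisation
  let g := LocalizedModule.mkLinearMap q'.primeCompl M
  rw [Module.Flat.iff_lTensor_injective']
  intro I
  have h0 : ∀ x, AlgebraTensorModule.lTensor L M I.subtype x = 0 → ∃ s ∉ q', s • x = 0 := by
    intro x hx
    let h1 := LocalizedModule.mkLinearMap n.primeCompl M
    have hinj : Function.Injective (AlgebraTensorModule.lTensor C (LocalizedModule n.primeCompl M) I.subtype) :=
      Module.Flat.lTensor_preserves_injective_linearMap I.subtype I.subtype_injective
    have hcomm : ∀ x : M ⊗[A] I, AlgebraTensorModule.lTensor C (LocalizedModule n.primeCompl M) I.subtype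
        (AlgebraTensorModule.rTensor A I h1 x) =
        AlgebraTensorModule.rTensor A A h1 (AlgebraTensorModule.lTensor L M I.subtype x) := fun x => by
      induction x using TensorProduct.induction_on with
      | zero => simp
      | tmul a b => simp
      | add a b ha hb => simp only [map_add, ha, hb]
    have h2 : AlgebraTensorModule.rTensor A I h1 x = 0 := hinj (by rw [hcomm, hx, map_zero, map_zero])
    obtain ⟨s, hs⟩ := (IsLocalizedModule.eq_zero_iff n.primeCompl (AlgebraTensorModule.rTensor A I h1)).1 h2
    refine ⟨algebraMap C L s.1, fun h => s.2 (hq ▸ h), ?_⟩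
    rw [← hs]
    clear hs hx h2
    induction x using TensorProduct.induction_on with
    | zero => simp
    | tmul a b => simp [TensorProduct.smul_tmul', Submonoid.smul_def]
    | add a b ha hb => rw [smul_add, smul_add, ha, hb]
  have h3 : ∀ y, (AlgebraTensorModule.lTensor L (LocalizedModule q'.primeCompl M) I.subtype) y = 0 → y = 0 := by
    intro y hy
    obtain ⟨⟨x, s⟩, hx⟩ := IsLocalizedModule.surj q'.primeCompl (AlgebraTensorModule.rTensor A I g) y
    have hcomm : ∀ x : M ⊗[A] I, AlgebraTensorModule.lTensor L (LocalizedModule q'.primeCompl M) I.subtype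
        (AlgebraTensorModule.rTensor A I g x) =
        AlgebraTensorModule.rTensor A A g (AlgebraTensorModule.lTensor L M I.subtype x) := fun x => by
      induction x using TensorProduct.induction_on with
      | zero => simp
      | tmul a b => simp
      | add a b ha hb => simp only [map_add, ha, hb]
    have h4 : AlgebraTensorModule.rTensor A A g (AlgebraTensorModule.lTensor L M I.subtype x) = 0 := by
      rw [← hcomm, ← hx, Submonoid.smul_def, map_smul, hy, smul_zero]
    obtain ⟨t, ht⟩ := (IsLocalizedModule.eq_zero_iff q'.primeCompl (AlgebraTensorModule.rTensor A A g)).1 h4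
    obtain ⟨t', ht', h5⟩ := h0 (t.1 • x) (by rw [map_smul]; exact ht)
    have h6 : ((⟨t', ht'⟩ : q'.primeCompl) * t * s) • y = 0 := by
      rw [mul_smul, hx, Submonoid.smul_def, Submonoid.coe_mul, ← map_smul, mul_smul, h5, map_zero]
    exact IsLocalizedModule.smul_injective (AlgebraTensorModule.rTensor A I g) _ (h6.trans (smul_zero _).symm)
  exact (injective_iff_map_eq_zero _).2 h3

omit [IsNoetherianRing A] in
/-- Transcendence degrees of residue rings do not change along quotients. -/
theorem trdeg_quotient_eq {B S : Type u} [CommRing B] [CommRing S] [Algebra A B] [Algebra A S] [Algebra B S]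
    [IsScalarTower A B S] (hsurj : Function.Surjective (algebraMap B S)) (p : Ideal A) [p.IsPrime]
    (PS : Ideal S) [PS.IsPrime] [PS.LiesOver p] (PB : Ideal B) [PB.IsPrime]
    (hPB : PB = PS.comap (algebraMap B S)) (hp : PB.under A = p) :
    Algebra.trdeg (A ⧸ PB.under A) (B ⧸ PB) = Algebra.trdeg (A ⧸ p) (S ⧸ PS) := by
  haveI : (PB.under A).IsPrime := hp ▸ inferInstance
  haveI : FaithfulSMul (A ⧸ p) (S ⧸ PS) := (faithfulSMul_iff_algebraMap_injective _ _).2 (by
    refine (injective_iff_map_eq_zero _).2 fun x hx => ?_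
    obtain ⟨a, rfl⟩ := Ideal.Quotient.mk_surjective x
    exact Ideal.Quotient.eq_zero_iff_mem.2
      ((Ideal.over_def PS p).ge (Ideal.Quotient.eq_zero_iff_mem.1 hx : algebraMap A S a ∈ PS)))
  let ψ : B →+* S ⧸ PS := (Ideal.Quotient.mk PS).comp (algebraMap B S)
  have hψ : RingHom.ker ψ = PB := by
    ext x
    rw [RingHom.mem_ker, RingHom.comp_apply, Ideal.Quotient.eq_zero_iff_mem, hPB, Ideal.mem_comap]
  have hψs : Function.Surjective ψ := Ideal.Quotient.mk_surjective.comp hsurj
  refine DimFormulaLib.trdeg_eq_of_ringEquiv (Ideal.quotEquivOfEq hp)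
    ((Ideal.quotEquivOfEq hψ.symm).trans (RingHom.quotientKerEquivOfSurjective hψs)) fun r => ?_
  obtain ⟨r, rfl⟩ := Ideal.Quotient.mk_surjective r
  show Ideal.Quotient.mk PS (algebraMap A S r) = ψ (algebraMap A B r)
  rw [IsScalarTower.algebraMap_apply A B S]
  rfl

omit [IsNoetherianRing A] in
/-- Flatness at a prime does not change along quotients. -/
theorem flat_of_quotient {B S : Type u} [CommRing B] [CommRing S] [Algebra B S]
    (hsurj : Function.Surjective (algebraMap B S)) (q : Ideal B) [q.IsPrime] (qS : Ideal S) [qS.IsPrime]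
    (hq : qS.comap (algebraMap B S) = q) (M : Type u) [AddCommGroup M] [Module A M] [Module B M] [Module S M]
    [IsScalarTower B S M] [Algebra A B] [Algebra A S] [IsScalarTower A B M] [IsScalarTower A S M]
    [IsScalarTower A B S]
    [Module.Flat A (LocalizedModule qS.primeCompl M)] : Module.Flat A (LocalizedModule q.primeCompl M) := by
  let g := (LocalizedModule.mkLinearMap qS.primeCompl M).restrictScalars B
  haveI : IsLocalizedModule q.primeCompl g :=
    { map_units := fun x => by
        have hu := IsLocalizedModule.map_units (LocalizedModule.mkLinearMap qS.primeCompl M)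
          (⟨algebraMap B S x.1, fun h => x.2 (hq ▸ h)⟩ : qS.primeCompl)
        rw [Module.End.isUnit_iff] at hu ⊢
        convert hu using 1
        funext y
        exact (algebraMap_smul S x.1 y).symm
      surj := fun y => by
        obtain ⟨⟨x, s⟩, hx⟩ := IsLocalizedModule.surj qS.primeCompl (LocalizedModule.mkLinearMap qS.primeCompl M) y
        obtain ⟨b, hb⟩ := hsurj s.1
        refine ⟨⟨x, ⟨b, fun h => s.2 (hb ▸ (hq.ge h : algebraMap B S b ∈ qS))⟩⟩, ?_⟩
        show b • y = LocalizedModule.mkLinearMap qS.primeCompl M x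
        rw [← hx, Submonoid.smul_def, ← algebraMap_smul S b y, hb]
      exists_of_eq := fun {x₁ x₂} h => by
        obtain ⟨s, hs⟩ := IsLocalizedModule.exists_of_eq (S := qS.primeCompl)
          (f := LocalizedModule.mkLinearMap qS.primeCompl M) h
        obtain ⟨b, hb⟩ := hsurj s.1
        refine ⟨⟨b, fun h => s.2 (hb ▸ (hq.ge h : algebraMap B S b ∈ qS))⟩, ?_⟩
        show b • x₁ = b • x₂
        rw [← algebraMap_smul S b x₁, ← algebraMap_smul S b x₂, hb]
        exact hs }
  exact Module.Flat.of_linearEquiv ((IsLocalizedModule.iso q.primeCompl g).restrictScalars A)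

variable [IsReduced A]

set_option maxHeartbeats 1000000 in
/-- The valuative criterion, by induction on the dimension of the fibre of the support. -/
theorem flat_of_fibreLT (d : ℕ) : ∀ {B : Type u} [CommRing B] [Algebra A B] [Algebra.FiniteType A B]
    (M : Type u) [AddCommGroup M] [Module A M] [Module B M] [IsScalarTower A B M] [Module.Finite B M]
    (q : Ideal B) [q.IsPrime], ValFlatAt A B M q → FibreLT A B M q d →
    Module.Flat A (LocalizedModule q.primeCompl M) := by
  induction d using Nat.strong_induction_on with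
  | _ d IH =>
  intro B _ _ _ M _ _ _ _ _ q _ hM hd
  classical
  by_cases hsupp : (⟨q, inferInstance⟩ : PrimeSpectrum B) ∉ Module.support B M
  · rw [Module.mem_support_iff, not_nontrivial_iff_subsingleton] at hsupp
    exact Module.Flat.of_linearEquiv (LinearEquiv.ofSubsingleton _ PUnit.{u + 1})
  rw [not_not] at hsupp
  haveI : IsNoetherianRing B := Algebra.FiniteType.isNoetherianRing A B
  let J := Module.annihilator B M
  let S := B ⧸ J
  letI : Module S M := Module.quotientAnnihilator
  haveI : IsScalarTower B S M := (Module.isTorsionBySet_annihilator B M).isScalarTower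
  haveI : IsScalarTower A S M := (Module.isTorsionBySet_annihilator B M).isScalarTower
  haveI : Module.Finite S M := Module.Finite.of_restrictScalars_finite B S M
  haveI : IsNoetherianRing S := inferInstance
  have hJq : J ≤ q := by
    have := hsupp
    rw [Module.support_eq_zeroLocus, PrimeSpectrum.mem_zeroLocus] at this
    exact this
  let qS : Ideal S := q.map (Ideal.Quotient.mk J)
  haveI : qS.IsPrime := Ideal.map_isPrime_of_surjective Ideal.Quotient.mk_surjective (by rw [Ideal.mk_ker]; exact hJq)
  have hqS : qS.comap (algebraMap B S) = q := by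
    show (q.map (Ideal.Quotient.mk J)).comap (Ideal.Quotient.mk J) = q
    rw [Ideal.comap_map_of_surjective _ Ideal.Quotient.mk_surjective, ← RingHom.ker_eq_comap_bot, Ideal.mk_ker]
    exact sup_eq_left.2 hJq
  let p := q.under A
  haveI : qS.LiesOver p := ⟨by
    show q.comap (algebraMap A B) = qS.comap (algebraMap A S)
    rw [IsScalarTower.algebraMap_eq A B S, ← Ideal.comap_comap, hqS]⟩
  -- the fibre of `S`
  let F := p.Fiber S
  haveI : IsNoetherianRing F := Algebra.FiniteType.isNoetherianRing p.ResidueField F
  let eF := PrimeSpectrum.preimageEquivFiber A S ⟨p, inferInstance⟩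
  have hqSp : PrimeSpectrum.comap (algebraMap A S) ⟨qS, inferInstance⟩ = ⟨p, inferInstance⟩ :=
    PrimeSpectrum.ext (Ideal.over_def qS p).symm
  let Q := eF ⟨⟨qS, inferInstance⟩, hqSp⟩
  have hcomap : ∀ P : PrimeSpectrum F, P.asIdeal.comap
      (Algebra.TensorProduct.includeRight : S →ₐ[A] F).toRingHom = (eF.symm P).1.asIdeal := fun P => rfl
  have hQ : Q.asIdeal.comap (Algebra.TensorProduct.includeRight : S →ₐ[A] F).toRingHom = qS :=
    (hcomap Q).trans (congrArg (fun z => z.1.asIdeal) (eF.symm_apply_apply _))
  have hbound : ∀ (P : PrimeSpectrum F) (t : ℕ), P ≤ Q →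
      Algebra.trdeg p.ResidueField (F ⧸ P.asIdeal) = t → t < d := by
    intro P t hPQ ht
    let PS := (eF.symm P).1
    have hPSp : PS.asIdeal.under A = p := congrArg PrimeSpectrum.asIdeal (eF.symm P).2
    haveI : PS.asIdeal.LiesOver p := ⟨hPSp.symm⟩
    have h1 := DimFormulaLib.trdeg_fibre p PS.asIdeal P.asIdeal (hcomap P)
    let PB : PrimeSpectrum B := PrimeSpectrum.comap (algebraMap B S) PS
    have hPBp : PB.asIdeal.under A = p := by
      rw [← hPSp]
      show (PS.asIdeal.comap (algebraMap B S)).comap (algebraMap A B) = _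
      rw [Ideal.comap_comap, ← IsScalarTower.algebraMap_eq]
    have hPBq : PB.asIdeal ≤ q := by
      rw [← hqS, ← hQ]
      exact Ideal.comap_mono ((hcomap P).symm.le.trans (Ideal.comap_mono hPQ))
    refine hd PB hPBq hPBp ?_ t ?_
    · rw [Module.support_eq_zeroLocus, PrimeSpectrum.mem_zeroLocus]
      intro x hx
      show algebraMap B S x ∈ PS.asIdeal
      rw [show algebraMap B S x = 0 from Ideal.Quotient.eq_zero_iff_mem.2 hx]
      exact zero_mem _
    · rw [← ht, h1]
      exact trdeg_quotient_eq Ideal.Quotient.mk_surjective p PS.asIdeal PB.asIdeal rfl hPBp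
  obtain ⟨t₀, ht₀⟩ := DimFormulaLib.exists_nat_trdeg_quotient p.ResidueField F Q.asIdeal
  have hd0 : 0 < d := lt_of_le_of_lt (Nat.zero_le t₀) (hbound Q t₀ le_rfl ht₀)
  let P := fun t : ℕ => ∃ P : PrimeSpectrum F, P ≤ Q ∧ Algebra.trdeg p.ResidueField (F ⧸ P.asIdeal) = t
  let n := Nat.findGreatest P d
  have hPn : P n := Nat.findGreatest_spec (m := t₀) (hbound Q t₀ le_rfl ht₀).le ⟨Q, le_rfl, ht₀⟩
  have hnd : n < d := by
    obtain ⟨P', hP', ht'⟩ := hPn
    exact hbound P' n hP' ht'
  obtain ⟨hloc, -⟩ := DimFormulaLib.localDim_bounds p.ResidueField F Q n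
    (fun P' t _ hP' ht => Nat.le_findGreatest (hbound P' t hP' ht).le ⟨P', hP', ht⟩) hPn
  -- quasi-finite coordinates
  obtain ⟨g, hg, φ, hqf⟩ := DimFormulaLib.exists_quasiFinite_nhd qS p Q hQ n hloc
  let T := MvPolynomial (Fin n) A
  letI : Algebra T S := φ.toRingHom.toAlgebra
  haveI : IsScalarTower A T S := .of_algebraMap_eq fun a => (φ.commutes a).symm
  haveI : Algebra.FiniteType T S := Algebra.FiniteType.of_restrictScalars_finiteType A T S
  haveI : Algebra.QuasiFiniteAt T qS := hqf qS hg
  obtain ⟨C, _, _, _, nC, _, _, e, he, P', _, _, hP'q, heP', -, hfin, huniq⟩ :=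
    Algebra.exists_etale_isIdempotentElem_forall_liesOver_eq (qS.under T) qS
  letI : Algebra A C := ((algebraMap T C).comp (algebraMap A T)).toAlgebra
  haveI : IsScalarTower A T C := .of_algebraMap_eq' rfl
  let R := C ⊗[T] S
  haveI : IsScalarTower A S R := .of_algebraMap_eq fun a => by
    show algebraMap A C a ⊗ₜ[T] (1 : S) = (1 : C) ⊗ₜ[T] algebraMap A S a
    rw [IsScalarTower.algebraMap_apply A T C, IsScalarTower.algebraMap_apply A T S,
      Algebra.algebraMap_eq_smul_one (algebraMap A T a), TensorProduct.smul_tmul,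
      ← Algebra.algebraMap_eq_smul_one (algebraMap A T a)]
  haveI : Module.Flat S R :=
    Module.Flat.of_linearEquiv (Algebra.TensorProduct.commRight T S C).symm.toLinearEquiv
  let L := Localization.Away e
  haveI : IsScalarTower A C R := inferInstance
  haveI : IsScalarTower A C L := IsScalarTower.of_algebraMap_eq fun a => by
    rw [IsScalarTower.algebraMap_apply A R L, IsScalarTower.algebraMap_apply A C R,
      ← IsScalarTower.algebraMap_apply C R L]
  haveI : IsScalarTower A S L := IsScalarTower.of_algebraMap_eq fun a => by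
    rw [IsScalarTower.algebraMap_apply A R L, IsScalarTower.algebraMap_apply A S R,
      ← IsScalarTower.algebraMap_apply S R L]
  haveI : Module.Flat R L := IsLocalization.flat L (Submonoid.powers e)
  haveI : Module.Flat S L := Module.Flat.trans S R L
  haveI : Module.Finite C L := hfin
  let qL : Ideal L := P'.map (algebraMap R L)
  have hdisj : Disjoint (Submonoid.powers e : Set R) P' :=
    (Ideal.disjoint_powers_iff_notMem _ (Ideal.IsPrime.isRadical ‹P'.IsPrime›)).2 heP'
  haveI : qL.IsPrime := IsLocalization.isPrime_of_isPrime_disjoint (Submonoid.powers e) L P' ‹_› hdisj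
  have hqLR : qL.comap (algebraMap R L) = P' :=
    IsLocalization.under_map_of_isPrime_disjoint (Submonoid.powers e) L ‹_› hdisj
  have hqLS : qL.comap (algebraMap S L) = qS := by
    rw [IsScalarTower.algebraMap_eq S R L, ← Ideal.comap_comap, hqLR]
    exact hP'q
  have hqLC : qL.comap (algebraMap C L) = nC := by
    rw [IsScalarTower.algebraMap_eq C R L, ← Ideal.comap_comap, hqLR]
    exact (Ideal.over_def P' nC).symm
  let M' := L ⊗[S] M
  haveI : Module.Finite C M' := Module.Finite.trans L M'
  -- torsion freeness after localisation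
  have hMS : ValFlatAt A S M qS := ValFlatAt.of_algebra A B S M qS (hqS.symm ▸ hM)
  have hML : ValFlatAt A L M' qL := ValFlatAt.baseChange A S L M qL (hqLS.symm ▸ hMS)
  have hMC : ValFlatAt A C M' nC := ValFlatAt.of_integral A C L M' nC fun q' hq' hq'C => by
    haveI : (q'.comap (algebraMap R L)).LiesOver nC := ⟨by
      show nC = (q'.comap (algebraMap R L)).comap (algebraMap C R)
      rw [Ideal.comap_comap, ← IsScalarTower.algebraMap_eq, hq'C]⟩
    have h1 : q'.comap (algebraMap R L) = P' := huniq _ inferInstance inferInstance fun h =>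
      hq'.ne_top (q'.eq_top_of_isUnit_mem h (IsLocalization.Away.algebraMap_isUnit e))
    have h2 : q' = qL := by
      rw [← IsLocalization.map_under (Submonoid.powers e) L q']
      show (q'.comap (algebraMap R L)).map (algebraMap R L) = _
      rw [h1]
    rw [h2]
    exact hML
  -- the core step
  let pC : Ideal A := nC.under A
  have hpC : pC = p := by
    show nC.comap (algebraMap A C) = p
    rw [← hqLC, Ideal.comap_comap, ← IsScalarTower.algebraMap_eq, IsScalarTower.algebraMap_eq A S L,
      ← Ideal.comap_comap, hqLS]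
    exact (Ideal.over_def qS p).symm
  obtain ⟨N, _, hN, hdom⟩ := exists_prime_fibre n nC pC rfl
  haveI : IsReduced T := inferInstance
  haveI : IsReduced C := EtaleLib.isReduced_of_etale (A := T) C
  haveI : Algebra.FiniteType A C := Algebra.FiniteType.trans (S := T) inferInstance inferInstance
  haveI : Module.Flat T C := inferInstance
  haveI : Module.Flat A C := Module.Flat.trans A T C
  haveI := hdom
  haveI := flat_step (M := M') nC pC rfl N hN n
    (fun P hPn hPp t ht => by
      haveI : Algebra.QuasiFinite T C := inferInstance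
      have h := DimFormulaLib.trdeg_le_of_quasiFiniteAt n (IsScalarTower.toAlgHom A T C) P.asIdeal
        (by
          have e : (IsScalarTower.toAlgHom A T C).toRingHom.toAlgebra = ‹Algebra T C› := Algebra.algebra_ext _ _ fun _ => rfl
          rw [e]
          infer_instance)
      rw [ht] at h
      exact_mod_cast h)
    hMC (fun Q _ _ _ _ _ hQv hQd => IH n hnd Q nC hQv hQd)
  haveI : Module.Flat A (LocalizedModule qL.primeCompl M') := flat_localizedModule_of_comap nC qL hqLC M'
  haveI : Module.Flat A (LocalizedModule qS.primeCompl M) := flat_of_flat_baseChange qS qL hqLS M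
  exact flat_of_quotient Ideal.Quotient.mk_surjective q qS hqS M

end Groth.Agent.FlatValLib
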