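import Groth.Agent.FlatValLib.Transfer

/-!
# Injectivity on the special fibre and its consequences after base change to a discrete valuation ring
-/

set_option autoImplicit false
set_option linter.style.haveILetI false

open TensorProduct

universe u

namespace Groth.Agent.FlatValLib

variable {A : Type u} [CommRing A] {C : Type u} [CommRing C] [Algebra A C]

/-- A localised module of a flat module is flat. -/
theorem flat_localizedModule {E : Type u} [AddCommGroup E] [Module C E] [Module A E] [IsScalarTower A C E]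
    [Module.Flat A E] (S : Submonoid C) : Module.Flat A (LocalizedModule S E) := by
  let g := LocalizedModule.mkLinearMap S E
  rw [Module.Flat.iff_lTensor_injective']
  intro I
  have h0 : Function.Injective (AlgebraTensorModule.lTensor C E I.subtype) :=
    Module.Flat.lTensor_preserves_injective_linearMap I.subtype Subtype.val_injective
  have h1 := IsLocalizedModule.map_injective S
    (AlgebraTensorModule.rTensor A I g) (AlgebraTensorModule.rTensor A A g)
    (AlgebraTensorModule.lTensor C E I.subtype) h0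
  simpa [IsLocalizedModule.map_lTensor] using h1

section Fibre

variable {p : Ideal A} [p.IsPrime]

theorem isUnit_fibre (a : A) (ha : a ∉ p) : IsUnit (algebraMap A (C ⊗[A] p.ResidueField) a) := by
  have h : algebraMap A (C ⊗[A] p.ResidueField) a = (1 : C) ⊗ₜ[A] algebraMap A p.ResidueField a := by
    rw [Algebra.algebraMap_eq_smul_one, Algebra.algebraMap_eq_smul_one, TensorProduct.tmul_smul,
      Algebra.TensorProduct.one_def]
  rw [h]
  exact (Ne.isUnit fun h => ha (Ideal.algebraMap_residueField_eq_zero.1 h)).map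
    (Algebra.TensorProduct.includeRight : p.ResidueField →ₐ[A] C ⊗[A] p.ResidueField)

/-- Elements of the fibre are units times elements of the ring. -/
theorem exists_unit_mul (z : C ⊗[A] p.ResidueField) :
    ∃ (e : C ⊗[A] p.ResidueField) (d : C), IsUnit e ∧ e * z = d ⊗ₜ 1 := by
  obtain ⟨a, ha, d, hd⟩ := Ideal.ResidueField.exists_smul_eq_tmul_one (p := p) z
  exact ⟨_, d, isUnit_fibre a ha, by rw [← Algebra.smul_def, hd]⟩

theorem mem_of_tmul_eq_zero (P : Ideal C) [P.IsPrime] (hP : p = P.under A) (c : C)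
    (h : (c ⊗ₜ[A] 1 : C ⊗[A] p.ResidueField) = 0) : c ∈ P := by
  let f : C ⊗[A] p.ResidueField →ₐ[A] P.ResidueField :=
    Algebra.TensorProduct.lift (IsScalarTower.toAlgHom A C P.ResidueField)
      (Ideal.ResidueField.mapₐ p P (Algebra.ofId A C) hP) fun _ _ => Commute.all _ _
  have h1 : f (c ⊗ₜ 1) = algebraMap C P.ResidueField c := by simp [f]
  rw [h, map_zero] at h1
  exact Ideal.algebraMap_residueField_eq_zero.1 h1.symm

/-- An element of the fibre killed by a unit times `d` is killed by `d`. -/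
theorem tmul_one_mul_eq_zero_of_mul {s z : C ⊗[A] p.ResidueField} (e : C ⊗[A] p.ResidueField) (d : C)
    (he : e * s = d ⊗ₜ 1) (h : s * z = 0) : (d ⊗ₜ[A] 1 : C ⊗[A] p.ResidueField) * z = 0 := by
  rw [← he, mul_assoc, h, mul_zero]

theorem notMem_of_isUnit_mul (N : Ideal (C ⊗[A] p.ResidueField)) [N.IsPrime]
    {s e : C ⊗[A] p.ResidueField} (hs : s ∉ N) (he : IsUnit e) (d : C) (hd : e * s = d ⊗ₜ 1) :
    d ∉ N.comap (Algebra.TensorProduct.includeLeft : C →ₐ[A] C ⊗[A] p.ResidueField).toRingHom := by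
  intro h
  have h' : e * s ∈ N := hd ▸ h
  exact hs ((Ideal.IsPrime.mem_or_mem inferInstance h').resolve_left fun he' =>
    Ideal.IsPrime.ne_top inferInstance (N.eq_top_of_isUnit_mem he' he))

end Fibre

section Special

variable {p : Ideal A} [p.IsPrime]
  {M : Type u} [AddCommGroup M] [Module C M]
  {r : ℕ} (m : Fin r → M)

variable (C) in
/-- `F^r → F ⊗[C] M`. -/
noncomputable def φF (F : Type u) [CommRing F] [Algebra C F] : (Fin r → F) →ₗ[F] F ⊗[C] M :=
  Fintype.linearCombination F fun i => (1 : F) ⊗ₜ[C] m i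

theorem φF_apply (F : Type u) [CommRing F] [Algebra C F] (z : Fin r → F) :
    φF C m F z = ∑ i, z i ⊗ₜ[C] m i := by
  simp [φF, Fintype.linearCombination_apply, TensorProduct.smul_tmul', smul_eq_mul]

/-- Kernels of `φF` are compatible with `C`-linear maps. -/
theorem φF_map {F F' : Type u} [CommRing F] [Algebra C F] [CommRing F'] [Algebra C F'] (g : F →ₗ[C] F')
    (z : Fin r → F) (h : φF C m F z = 0) : φF C m F' (fun i => g (z i)) = 0 := by
  have h' := congrArg (g.rTensor M) h
  rw [map_zero, φF_apply, map_sum] at h'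
  rw [φF_apply]
  simpa using h'

/-- If `c` kills the kernel on the fibre over `p`, it does so over every field extension of `κ(p)`. -/
theorem kills_of_field {k : Type u} [Field k] [Algebra A k] [Algebra p.ResidueField k]
    [IsScalarTower A p.ResidueField k] (c : C)
    (hc : ∀ z : Fin r → C ⊗[A] p.ResidueField, φF C m (C ⊗[A] p.ResidueField) z = 0 → c • z = 0)
    (z : Fin r → C ⊗[A] k) (hz : φF C m (C ⊗[A] k) z = 0) : c • z = 0 := by
  classical
  let b := Module.Free.chooseBasis p.ResidueField k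
  let e : C ⊗[A] k ≃ₗ[C] (Module.Free.ChooseBasisIndex p.ResidueField k →₀ C ⊗[A] p.ResidueField) :=
    AlgebraTensorModule.congr (LinearEquiv.refl C C) (b.repr.restrictScalars A) ≪≫ₗ
      TensorProduct.finsuppRight A C C p.ResidueField _
  funext i
  apply e.injective
  ext j
  have h := hc _ (φF_map m ((Finsupp.lapply j).comp e.toLinearMap) z hz)
  have h' := congrFun h i
  simpa using h'

end Special

section DVR

variable {p : Ideal A} [p.IsPrime]
  {V : Type u} [CommRing V] [IsDomain V] [IsDiscreteValuationRing V] [Algebra A V]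
  {M : Type u} [AddCommGroup M] [Module A M] [Module C M] [IsScalarTower A C M]
  {r : ℕ} (m : Fin r → M)

variable (A C V) in
/-- `(C ⊗ V)^r → M ⊗ V`. -/
noncomputable def φV : (Fin r → C ⊗[A] V) →ₗ[C ⊗[A] V] MV A C V M :=
  Fintype.linearCombination (C ⊗[A] V) fun i => MV.mk A C (m i) 1

theorem φV_tmul (z : Fin r → C) (v : V) :
    φV A C V m (fun i => z i ⊗ₜ v) = MV.mk A C (∑ i, z i • m i) v := by
  simp only [φV, Fintype.linearCombination_apply, smul_mk, mul_one]
  exact (map_sum ((TensorProduct.mk A M V).flip v) _ _).symm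

theorem under_eq_of_comap (Q : Ideal (C ⊗[A] V))
    (hr : Q.comap (Algebra.TensorProduct.includeRight : V →ₐ[A] C ⊗[A] V).toRingHom = IsLocalRing.maximalIdeal V)
    (a : A) : algebraMap A V a ∈ IsLocalRing.maximalIdeal V ↔
      a ∈ (Q.comap (Algebra.TensorProduct.includeLeft : C →ₐ[A] C ⊗[A] V).toRingHom).under A := by
  rw [← hr, Ideal.mem_comap, Ideal.under, Ideal.mem_comap, Ideal.mem_comap]
  exact iff_of_eq (congrArg (· ∈ Q)
    (((Algebra.TensorProduct.includeRight : V →ₐ[A] C ⊗[A] V).commutes a).trans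
      ((Algebra.TensorProduct.includeLeft : C →ₐ[A] C ⊗[A] V).commutes a).symm))

/-- The key consequence: `φV` is injective modulo the uniformiser at `Q`. -/
theorem φV_mod {n : Ideal C} (hp : p = n.under A) (c : C) (hcn : c ∉ n)
    (hc : ∀ z : Fin r → C ⊗[A] p.ResidueField, φF C m (C ⊗[A] p.ResidueField) z = 0 → c • z = 0)
    (Q : Ideal (C ⊗[A] V))
    (hl : Q.comap (Algebra.TensorProduct.includeLeft : C →ₐ[A] C ⊗[A] V).toRingHom = n)
    (hr : Q.comap (Algebra.TensorProduct.includeRight : V →ₐ[A] C ⊗[A] V).toRingHom = IsLocalRing.maximalIdeal V)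
    (π : V) (hπ : Irreducible π) (z : Fin r → C ⊗[A] V) (y : MV A C V M)
    (h : φV A C V m z = ((1 : C) ⊗ₜ[A] π) • y) :
    ∃ t ∉ Q, ∃ w, t • z = ((1 : C) ⊗ₜ[A] π) • w := by
  let k := IsLocalRing.ResidueField V
  have hmem : ∀ a : A, algebraMap A V a ∈ IsLocalRing.maximalIdeal V ↔ a ∈ p := fun a => by
    rw [under_eq_of_comap Q hr, hl, ← hp]
  let ικ : p.ResidueField →ₐ[A] k := Ideal.ResidueField.liftₐ p (Algebra.ofId A k)
    (fun a ha => RingHom.mem_ker.2 ((IsLocalRing.residue_eq_zero_iff _).2 ((hmem a).2 ha)))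
    (fun a ha => show IsUnit (IsLocalRing.residue V (algebraMap A V a)) from
      Ne.isUnit fun h0 => ha ((hmem a).1 ((IsLocalRing.residue_eq_zero_iff _).1 h0)))
  letI : Algebra p.ResidueField k := ικ.toRingHom.toAlgebra
  haveI : IsScalarTower A p.ResidueField k := .of_algebraMap_eq fun a => (ικ.commutes a).symm
  let res : V →ₐ[A] k := IsScalarTower.toAlgHom A V k
  let g : C ⊗[A] V →ₐ[C] C ⊗[A] k := Algebra.TensorProduct.map (AlgHom.id C C) res
  let Λ : M ⊗[A] V →ₗ[A] (C ⊗[A] k) ⊗[C] M :=
    TensorProduct.lift (LinearMap.mk₂ A (fun x v => ((1 : C) ⊗ₜ[A] res v) ⊗ₜ[C] x)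
      (fun x x' v => TensorProduct.tmul_add _ _ _)
      (fun a x v => by rw [TensorProduct.tmul_smul])
      (fun x v v' => by rw [map_add, TensorProduct.tmul_add, TensorProduct.add_tmul])
      (fun a x v => by rw [map_smul, TensorProduct.tmul_smul, ← TensorProduct.smul_tmul']))
  have hΛ : ∀ (t : C ⊗[A] V) (x : MV A C V M),
      Λ (show M ⊗[A] V from t • x) = g t • Λ (show M ⊗[A] V from x) := by
    intro t x
    induction t using TensorProduct.induction_on with
    | zero =>
      rw [map_zero, zero_smul, zero_smul]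
      exact map_zero Λ
    | add t t' ht ht' =>
      rw [map_add, add_smul, add_smul, ← ht, ← ht']
      exact map_add Λ _ _
    | tmul b v =>
      induction x using MV.induction with
      | zero =>
        rw [smul_zero]
        exact (map_zero Λ).trans ((congrArg (g (b ⊗ₜ v) • ·) (map_zero Λ)).trans (smul_zero _)).symm
      | add x x' hx hx' =>
        rw [smul_add]
        exact (map_add Λ _ _).trans ((congrArg₂ (· + ·) hx hx').trans
          ((smul_add _ _ _).symm.trans (congrArg (g (b ⊗ₜ v) • ·) (map_add Λ _ _).symm)))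
      | mk x w =>
        show ((1 : C) ⊗ₜ[A] res (v * w)) ⊗ₜ[C] (b • x) = g (b ⊗ₜ v) • (((1 : C) ⊗ₜ[A] res w) ⊗ₜ[C] x)
        rw [TensorProduct.smul_tmul', ← TensorProduct.smul_tmul, map_mul]
        simp [g, TensorProduct.smul_tmul']
  have hπ0 : g ((1 : C) ⊗ₜ[A] π) = 0 := by
    have : res π = 0 := (IsLocalRing.residue_eq_zero_iff _).2 hπ.not_isUnit
    simp [g, this]
  have h0 : φF C m (C ⊗[A] k) (fun i => g (z i)) = 0 := by
    have h1 := congrArg (fun x : MV A C V M => Λ (show M ⊗[A] V from x)) h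
    have h2 : Λ (show M ⊗[A] V from φV A C V m z) = φF C m (C ⊗[A] k) (fun i => g (z i)) := by
      rw [φV, φF, Fintype.linearCombination_apply, Fintype.linearCombination_apply]
      refine (map_sum Λ _ _).trans (Finset.sum_congr rfl fun i _ => ?_)
      refine (hΛ _ _).trans (congrArg (g (z i) • ·) ?_)
      show ((1 : C) ⊗ₜ[A] res 1) ⊗ₜ[C] m i = (1 : C ⊗[A] k) ⊗ₜ[C] m i
      rw [map_one, Algebra.TensorProduct.one_def]
    rw [← h2]
    exact h1.trans ((hΛ _ _).trans (by rw [hπ0, zero_smul]))
  have h3 := kills_of_field m c hc _ h0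
  have hexact : Function.Exact ((LinearMap.mulLeft A π).lTensor C) (res.toLinearMap.lTensor C) := by
    refine _root_.lTensor_exact C (fun v => ?_) IsLocalRing.residue_surjective
    refine ⟨fun hv => ?_, ?_⟩
    · have hv' : v ∈ IsLocalRing.maximalIdeal V := (IsLocalRing.residue_eq_zero_iff _).1 hv
      rw [hπ.maximalIdeal_eq, Ideal.mem_span_singleton'] at hv'
      obtain ⟨w, rfl⟩ := hv'
      exact ⟨w, mul_comm π w⟩
    · rintro ⟨w, rfl⟩
      show IsLocalRing.residue V (π * w) = 0
      rw [map_mul, (IsLocalRing.residue_eq_zero_iff _).2 hπ.not_isUnit, zero_mul]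
  have hker : ∀ x : C ⊗[A] V, g x = 0 → ∃ w, ((1 : C) ⊗ₜ[A] π) * w = x := fun x hx => by
    obtain ⟨w, hw⟩ := (hexact x).1 hx
    refine ⟨w, ?_⟩
    rw [← hw]
    clear hw
    induction w using TensorProduct.induction_on with
    | zero => simp
    | add w w' hw hw' => rw [mul_add, hw, hw', map_add]
    | tmul b v => simp
  have h4 : ∀ i, ∃ w, ((1 : C) ⊗ₜ[A] π) * w = (c ⊗ₜ[A] (1 : V)) * z i := fun i => by
    refine hker _ ?_
    have h5 := congrFun h3 i
    simp only [Pi.smul_apply, Pi.zero_apply] at h5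
    rw [map_mul, ← h5, Algebra.smul_def]
    congr 1
  choose w hw using h4
  refine ⟨c ⊗ₜ[A] (1 : V), fun ht => hcn (hl ▸ ht), w, funext fun i => ?_⟩
  simp [Pi.smul_apply, smul_eq_mul, hw]

/-- Lifts along the quotient by the image of `φ`. -/
theorem mem_range_φV_of_map_eq_zero (y : MV A C V M)
    (hy : MV.map (V := V) (LinearMap.range (Fintype.linearCombination C m)).mkQ y = 0) :
    y ∈ LinearMap.range (φV A C V m) := by
  let φ := Fintype.linearCombination C m
  have hex : Function.Exact ((φ.restrictScalars A).rTensor V)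
      (((LinearMap.range φ).mkQ.restrictScalars A).rTensor V) :=
    _root_.rTensor_exact V (fun x => (LinearMap.exact_map_mkQ_range φ) x) (Submodule.mkQ_surjective _)
  obtain ⟨w, hw⟩ := (hex y).1 hy
  rw [← hw]
  clear hw hy y
  induction w using TensorProduct.induction_on with
  | zero => exact ⟨0, (map_zero _).trans (map_zero _).symm⟩
  | add a b ha hb =>
    obtain ⟨za, hza⟩ := ha
    obtain ⟨zb, hzb⟩ := hb
    exact ⟨za + zb, (map_add _ _ _).trans ((congrArg₂ (· + ·) hza hzb).trans (map_add _ a b).symm)⟩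
  | tmul z v =>
    refine ⟨fun i => z i ⊗ₜ v, (φV_tmul m z v).trans ?_⟩
    show MV.mk A C (∑ i, z i • m i) v = MV.mk A C (Fintype.linearCombination C m z) v
    rw [Fintype.linearCombination_apply]

theorem map_φV_eq_zero (z : Fin r → C ⊗[A] V) :
    MV.map (V := V) (LinearMap.range (Fintype.linearCombination C m)).mkQ (φV A C V m z) = 0 := by
  classical
  rw [φV, Fintype.linearCombination_apply, map_sum]
  refine Finset.sum_eq_zero fun i _ => ?_
  have h0 : (LinearMap.range (Fintype.linearCombination C m)).mkQ (m i) = 0 :=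
    (Submodule.Quotient.mk_eq_zero _).2 ⟨Pi.single i 1, by
      rw [Fintype.linearCombination_apply_single, one_smul]⟩
  rw [map_smul, MV.map_mk, h0, MV.zero_mk, smul_zero]

variable [IsNoetherianRing A] [Algebra.FiniteType A C]

/-- The cokernel inherits torsion freeness, and the map is injective after base change. -/
theorem valFlatAt_coker {n : Ideal C} (hp : p = n.under A) (c : C) (hcn : c ∉ n)
    (hc : ∀ z : Fin r → C ⊗[A] p.ResidueField, φF C m (C ⊗[A] p.ResidueField) z = 0 → c • z = 0)
    (hM : ValFlatAt A C M n) :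
    ValFlatAt A C (M ⧸ LinearMap.range (Fintype.linearCombination C m)) n ∧
      ∀ (W : Type u) [CommRing W] [IsDomain W] [IsDiscreteValuationRing W] [Algebra A W]
        (Q : Ideal (C ⊗[A] W)) [Q.IsPrime],
        Q.comap (Algebra.TensorProduct.includeLeft : C →ₐ[A] C ⊗[A] W).toRingHom = n →
        Q.comap (Algebra.TensorProduct.includeRight : W →ₐ[A] C ⊗[A] W).toRingHom = IsLocalRing.maximalIdeal W →
        ∀ z, φV A C W m z = 0 → ∃ t ∉ Q, t • z = 0 := by
  have key : ∀ (W : Type u) [CommRing W] [IsDomain W] [IsDiscreteValuationRing W] [Algebra A W]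
      (Q : Ideal (C ⊗[A] W)) [Q.IsPrime],
      Q.comap (Algebra.TensorProduct.includeLeft : C →ₐ[A] C ⊗[A] W).toRingHom = n →
      Q.comap (Algebra.TensorProduct.includeRight : W →ₐ[A] C ⊗[A] W).toRingHom = IsLocalRing.maximalIdeal W →
      ∀ π : W, Irreducible π →
      (∀ z, φV A C W m z = 0 → ∃ t ∉ Q, t • z = 0) ∧
        ∀ y : MV A C W M, ((1 : C) ⊗ₜ[A] π) • y ∈ LinearMap.range (φV A C W m) →
          ∃ t ∉ Q, t • y ∈ LinearMap.range (φV A C W m) := by
    intro W _ _ _ _ Q _ hl hr π hπ
    haveI : IsNoetherianRing C := Algebra.FiniteType.isNoetherianRing A C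
    haveI : Algebra.FiniteType W (W ⊗[A] C) := inferInstance
    haveI : IsNoetherianRing (W ⊗[A] C) := Algebra.FiniteType.isNoetherianRing W _
    haveI : IsNoetherianRing (C ⊗[A] W) :=
      isNoetherianRing_of_ringEquiv _ (Algebra.TensorProduct.comm A W C).toRingEquiv
    refine injective_and_regular_of_mod Q _ ?_ (φV A C W m) (hM W Q hl hr π hπ)
      (φV_mod m hp c hcn hc Q hl hr π hπ)
    have hπm : π ∈ IsLocalRing.maximalIdeal W := hπ.not_isUnit
    rw [← hr] at hπm
    exact hπm
  refine ⟨fun W _ _ _ _ Q _ hl hr π hπ y hy => ?_, fun W _ _ _ _ Q _ hl hr => ?_⟩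
  · obtain ⟨y₀, rfl⟩ : ∃ y₀, MV.map (V := W) (LinearMap.range (Fintype.linearCombination C m)).mkQ y₀ = y :=
      LinearMap.rTensor_surjective W (g := (LinearMap.range (Fintype.linearCombination C m)).mkQ.restrictScalars A)
        (Submodule.mkQ_surjective _) y
    rw [← map_smul] at hy
    obtain ⟨t, ht, z, hz⟩ := (key W Q hl hr π hπ).2 y₀ (mem_range_φV_of_map_eq_zero m _ hy)
    refine ⟨t, ht, ?_⟩
    rw [← map_smul, ← hz, map_φV_eq_zero]
  · obtain ⟨π, hπ⟩ := IsDiscreteValuationRing.exists_irreducible W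
    exact (key W Q hl hr π hπ).1

end DVR

end Groth.Agent.FlatValLib
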