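import Groth.Agent.FlatValLib.Criterion

/-!
# The valuative criterion of flatness, unconditionally in the dimension
-/

set_option autoImplicit false
set_option linter.style.haveILetI false

open TensorProduct

universe u

namespace Groth.Agent.FlatValLib

variable {A : Type u} [CommRing A] [IsNoetherianRing A]

omit [IsNoetherianRing A] in
theorem exists_fibreLT {B : Type u} [CommRing B] [Algebra A B] [Algebra.FiniteType A B]
    (M : Type u) [AddCommGroup M] [Module B M] (q : Ideal B) : ∃ d, FibreLT A B M q d := by
  obtain ⟨n, φ, hφ⟩ := Algebra.FiniteType.iff_quotient_mvPolynomial''.1 ‹Algebra.FiniteType A B›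
  refine ⟨n + 1, fun P _ _ _ t ht => ?_⟩
  have h := DimFormulaLib.trdeg_le_of_quasiFiniteAt n φ P.asIdeal (by
    letI := φ.toRingHom.toAlgebra
    haveI : Algebra.QuasiFinite (MvPolynomial (Fin n) A) B :=
      Algebra.QuasiFinite.of_surjective_algHom (Algebra.ofId (MvPolynomial (Fin n) A) B) hφ
    infer_instance)
  rw [ht] at h
  exact Nat.lt_succ_of_le (by exact_mod_cast h)

/-- The valuative criterion of flatness at a prime, over a reduced Noetherian ring. -/
theorem flatAt_of_valFlatAt [IsReduced A] {B : Type u} [CommRing B] [Algebra A B] [Algebra.FiniteType A B]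
    (M : Type u) [AddCommGroup M] [Module A M] [Module B M] [IsScalarTower A B M] [Module.Finite B M]
    (q : Ideal B) [q.IsPrime] (h : ValFlatAt A B M q) : Module.Flat A (LocalizedModule q.primeCompl M) := by
  obtain ⟨d, hd⟩ := exists_fibreLT (A := A) M q
  exact flat_of_fibreLT d M q h hd

omit [IsNoetherianRing A] in
theorem valFlatAt_of_flat {B : Type u} [CommRing B] [Algebra A B]
    (M : Type u) [AddCommGroup M] [Module A M] [Module B M] [IsScalarTower A B M] (q : Ideal B)
    (h : ∀ (R : Type u) [CommRing R] [IsDomain R] [IsDiscreteValuationRing R] [Algebra A R],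
      Module.Flat R (R ⊗[A] M)) : ValFlatAt A B M q := by
  intro V _ _ _ _ Q hQ _ _ π hπ y hy
  haveI := h V
  let e := TensorProduct.comm A M V
  have he : ∀ y : MV A B V M, e (((1 : B) ⊗ₜ[A] π) • y) = π • e y := by
    intro y
    induction y using MV.induction with
    | zero => rw [smul_zero]; exact (map_zero e).trans ((smul_zero π).symm.trans (congrArg (π • ·) (map_zero e).symm))
    | add a b ha hb =>
      rw [smul_add]
      exact (map_add e _ _).trans ((congrArg₂ (· + ·) ha hb).trans
        ((smul_add π _ _).symm.trans (congrArg (π • ·) (map_add e a b).symm)))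
    | mk m v =>
      rw [smul_mk, one_smul]
      rfl
  have h0 : π • e y = 0 := by
    rw [← he, hy]
    exact map_zero e
  have h1 : e y = 0 :=
    (Module.Flat.isTorsionFree (R := V) (M := V ⊗[A] M)).isSMulRegular
      (isRegular_of_ne_zero hπ.ne_zero) (h0.trans (smul_zero π).symm)
  exact ⟨1, Ideal.IsPrime.one_notMem hQ, (one_smul _ y).trans (e.injective (h1.trans (map_zero e).symm))⟩

end Groth.Agent.FlatValLib
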