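import Groth.Agent.FlatValLib.Basic

/-!
# Change of rings for torsion freeness of base changes to discrete valuation rings
-/

set_option autoImplicit false
set_option linter.style.haveILetI false

open TensorProduct

universe u

namespace Groth.Agent.FlatValLib

section Hom

variable {A : Type u} [CommRing A] {B B' : Type u} [CommRing B] [CommRing B'] [Algebra A B] [Algebra A B']
  [Algebra B B'] [IsScalarTower A B B']
  {V : Type u} [CommRing V] [Algebra A V]
  {M : Type u} [AddCommGroup M] [Module A M] [Module B M] [Module B' M] [IsScalarTower A B M]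
  [IsScalarTower A B' M] [IsScalarTower B B' M]

variable (A B B' V) in
/-- `B ⊗[A] V → B' ⊗[A] V`. -/
noncomputable def θ : B ⊗[A] V →ₐ[A] B' ⊗[A] V :=
  Algebra.TensorProduct.map (IsScalarTower.toAlgHom A B B') (AlgHom.id A V)

theorem θ_tmul (b : B) (v : V) : θ A B B' V (b ⊗ₜ v) = algebraMap B B' b ⊗ₜ v := rfl

variable (A B B' V M) in
/-- The identity `MV A B' V M → MV A B V M`. -/
noncomputable def MV.res : MV A B' V M ≃+ MV A B V M :=
  AddEquiv.refl (M ⊗[A] V)

theorem MV.res_mk (m : M) (v : V) : MV.res A B B' V M (MV.mk A B' m v) = MV.mk A B m v := rfl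

theorem MV.res_smul (t : B ⊗[A] V) (x : MV A B' V M) :
    MV.res A B B' V M (θ A B B' V t • x) = t • MV.res A B B' V M x := by
  induction t using TensorProduct.induction_on with
  | zero => simp
  | add t t' ht ht' => rw [map_add, add_smul, add_smul, map_add, ht, ht']
  | tmul b v =>
    induction x using MV.induction with
    | zero => simp
    | add x y hx hy => rw [smul_add, map_add, map_add, hx, hy, smul_add]
    | mk m w => rw [θ_tmul, smul_mk, MV.res_mk, MV.res_mk, smul_mk, algebraMap_smul]

theorem θ_one_tmul (v : V) : θ A B B' V ((1 : B) ⊗ₜ v) = (1 : B') ⊗ₜ v := by rw [θ_tmul, map_one]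

theorem comap_θ_left (Q : Ideal (B' ⊗[A] V)) :
    (Q.comap (θ A B B' V).toRingHom).comap
        (Algebra.TensorProduct.includeLeft : B →ₐ[A] B ⊗[A] V).toRingHom =
      (Q.comap (Algebra.TensorProduct.includeLeft : B' →ₐ[A] B' ⊗[A] V).toRingHom).comap (algebraMap B B') := by
  ext b; simp [θ_tmul]

theorem comap_θ_right (Q : Ideal (B' ⊗[A] V)) :
    (Q.comap (θ A B B' V).toRingHom).comap
        (Algebra.TensorProduct.includeRight : V →ₐ[A] B ⊗[A] V).toRingHom =
      Q.comap (Algebra.TensorProduct.includeRight : V →ₐ[A] B' ⊗[A] V).toRingHom := by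
  ext v; simp [θ_one_tmul]

variable (A B B' M) in
/-- Enlarging the ring acting on a module. -/
theorem ValFlatAt.of_algebra (q' : Ideal B') (h : ValFlatAt A B M (q'.comap (algebraMap B B'))) :
    ValFlatAt A B' M q' := by
  intro V _ _ _ _ Q _ hl hr π hπ y hy
  obtain ⟨t, ht, hty⟩ := h V (Q.comap (θ A B B' V).toRingHom) ((comap_θ_left Q).trans (by rw [hl]))
    ((comap_θ_right Q).trans hr) π hπ (MV.res A B B' V M y)
    (by rw [← MV.res_smul, θ_one_tmul, hy, map_zero])
  refine ⟨θ A B B' V t, ht, (MV.res A B B' V M).injective ?_⟩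
  rw [MV.res_smul, hty, map_zero]

variable (A B B' M) in
/-- Shrinking the ring acting on a module along an integral homomorphism. -/
theorem ValFlatAt.of_integral [Algebra.IsIntegral B B'] (q : Ideal B)
    (h : ∀ q' : Ideal B', q'.IsPrime → q'.comap (algebraMap B B') = q → ValFlatAt A B' M q') :
    ValFlatAt A B M q := by
  intro V _ _ _ _ Q _ hl hr π hπ y hy
  let y' := (MV.res A B B' V M).symm y
  have hy' : ((1 : B') ⊗ₜ[A] π) • y' = 0 := (MV.res A B B' V M).injective (by
    rw [← θ_one_tmul (B := B), MV.res_smul, AddEquiv.apply_symm_apply, hy, map_zero])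
  let I : Ideal (B' ⊗[A] V) := LinearMap.ker (LinearMap.toSpanSingleton (B' ⊗[A] V) _ y')
  by_contra hcon
  letI := (θ A B B' V).toRingHom.toAlgebra
  haveI : Algebra.IsIntegral (B ⊗[A] V) (B' ⊗[A] V) := ⟨fun z => by
    induction z using TensorProduct.induction_on with
    | zero => exact isIntegral_zero
    | add z z' hz hz' => exact hz.add hz'
    | tmul b v =>
      have e : (b ⊗ₜ[A] v : B' ⊗[A] V) =
          (b ⊗ₜ[A] (1 : V)) * algebraMap (B ⊗[A] V) (B' ⊗[A] V) ((1 : B) ⊗ₜ[A] v) := by
        rw [RingHom.algebraMap_toAlgebra, AlgHom.toRingHom_eq_coe, RingHom.coe_coe, θ_one_tmul,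
          Algebra.TensorProduct.tmul_mul_tmul, mul_one, one_mul]
      rw [e]
      refine IsIntegral.mul ?_ isIntegral_algebraMap
      obtain ⟨p, hp, hpb⟩ := Algebra.IsIntegral.isIntegral (R := B) b
      refine ⟨p.map (Algebra.TensorProduct.includeLeft : B →ₐ[A] B ⊗[A] V).toRingHom, hp.map _, ?_⟩
      rw [Polynomial.eval₂_map,
        show (algebraMap (B ⊗[A] V) (B' ⊗[A] V)).comp
            (Algebra.TensorProduct.includeLeft : B →ₐ[A] B ⊗[A] V).toRingHom =
          (Algebra.TensorProduct.includeLeft : B' →ₐ[A] B' ⊗[A] V).toRingHom.comp (algebraMap B B')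
          from RingHom.ext fun c => rfl,
        show (b ⊗ₜ[A] (1 : V) : B' ⊗[A] V) =
          (Algebra.TensorProduct.includeLeft : B' →ₐ[A] B' ⊗[A] V).toRingHom b from rfl,
        ← Polynomial.hom_eval₂, hpb, map_zero]⟩
  have hIQ : I.comap (algebraMap (B ⊗[A] V) (B' ⊗[A] V)) ≤ Q := fun t ht => by
    by_contra htQ
    refine hcon ⟨t, htQ, ?_⟩
    have h0 : θ A B B' V t • y' = 0 := ht
    have h1 := congrArg (MV.res A B B' V M) h0
    rwa [MV.res_smul, AddEquiv.apply_symm_apply, map_zero] at h1
  obtain ⟨Q', hIQ', hQ', hQ'Q⟩ := Ideal.exists_ideal_over_prime_of_isIntegral Q I hIQ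
  have hQc : Q'.comap (θ A B B' V).toRingHom = Q := hQ'Q
  haveI := hQ'
  obtain ⟨t, ht, hty⟩ := h _ inferInstance ((comap_θ_left Q').symm.trans (by rw [hQc, hl])) V Q' rfl
    ((comap_θ_right Q').symm.trans (by rw [hQc, hr])) π hπ y' hy'
  exact ht (hIQ' hty)

end Hom

section Flat

variable (A : Type u) [CommRing A] (B B' : Type u) [CommRing B] [CommRing B'] [Algebra A B] [Algebra A B']
  [Algebra B B'] [IsScalarTower A B B']
  (M : Type u) [AddCommGroup M] [Module A M] [Module B M] [IsScalarTower A B M]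

/-- Flat base change of the ring. -/
theorem ValFlatAt.baseChange [Module.Flat B B'] (q' : Ideal B')
    (h : ValFlatAt A B M (q'.comap (algebraMap B B'))) : ValFlatAt A B' (B' ⊗[B] M) q' := by
  intro V _ _ _ _ Q _ hl hr π hπ y hy
  let e := AlgebraTensorModule.assoc A B B' B' M V
  let μ : M ⊗[A] V →ₗ[B] M ⊗[A] V := AlgebraTensorModule.lTensor B M (LinearMap.mulLeft A π)
  have hμ : ∀ x : MV A B V M, ((1 : B) ⊗ₜ[A] π) • x = μ x := fun x => by
    induction x using MV.induction with
    | zero => exact (smul_zero _).trans (map_zero μ).symm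
    | add x z hx hz =>
      rw [smul_add, hx, hz]
      exact (map_add μ x z).symm
    | mk m w =>
      rw [smul_mk, one_smul]
      rfl
  have key : ∀ (b : B') (t : B ⊗[A] V) (x : MV A B V M),
      θ A B B' V t • (show MV A B' V (B' ⊗[B] M) from e.symm (b ⊗ₜ[B] (show M ⊗[A] V from x))) =
        (show MV A B' V (B' ⊗[B] M) from e.symm (b ⊗ₜ[B] (show M ⊗[A] V from t • x))) := by
    intro b t
    induction t using TensorProduct.induction_on with
    | zero =>
      intro x
      rw [map_zero, zero_smul, zero_smul]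
      exact ((congrArg e.symm (TensorProduct.tmul_zero _ b)).trans (map_zero e.symm)).symm
    | add t t' ht ht' =>
      intro x
      rw [map_add, add_smul, ht, ht', add_smul]
      exact (map_add e.symm _ _).symm.trans (congrArg e.symm (TensorProduct.tmul_add b _ _).symm)
    | tmul c v =>
      intro x
      induction x using MV.induction with
      | zero =>
        rw [smul_zero]
        have h0 : (show MV A B' V (B' ⊗[B] M) from e.symm (b ⊗ₜ[B] (0 : M ⊗[A] V))) = 0 :=
          (congrArg e.symm (TensorProduct.tmul_zero _ b)).trans (map_zero e.symm)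
        exact (congrArg (θ A B B' V (c ⊗ₜ v) • ·) h0).trans ((smul_zero _).trans h0.symm)
      | add x z hx hz =>
        rw [smul_add]
        have h1 : ∀ x z : M ⊗[A] V, (show MV A B' V (B' ⊗[B] M) from e.symm (b ⊗ₜ[B] (x + z))) =
            (show MV A B' V (B' ⊗[B] M) from e.symm (b ⊗ₜ[B] x)) +
              (show MV A B' V (B' ⊗[B] M) from e.symm (b ⊗ₜ[B] z)) := fun x z =>
          (congrArg e.symm (TensorProduct.tmul_add b x z)).trans (map_add e.symm _ _)
        exact (congrArg (θ A B B' V (c ⊗ₜ v) • ·) (h1 _ _)).trans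
          ((smul_add _ _ _).trans ((congrArg₂ (· + ·) hx hz).trans (h1 _ _).symm))
      | mk m w =>
        show (algebraMap B B' c • (b ⊗ₜ[B] m)) ⊗ₜ[A] (v * w) = (b ⊗ₜ[B] (c • m)) ⊗ₜ[A] (v * w)
        rw [TensorProduct.smul_tmul', ← TensorProduct.smul_tmul, algebraMap_smul]
  let K := LinearMap.ker μ
  have hex := Module.Flat.lTensor_exact B' (LinearMap.exact_subtype_ker_map μ)
  have hμy : μ.lTensor B' (e (show (B' ⊗[B] M) ⊗[A] V from y)) = 0 := by
    have h1 : ∀ z : (B' ⊗[B] M) ⊗[A] V,
        μ.lTensor B' (e z) = e (show (B' ⊗[B] M) ⊗[A] V from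
          ((1 : B') ⊗ₜ[A] π) • (show MV A B' V (B' ⊗[B] M) from z)) := fun z => by
      obtain ⟨w, rfl⟩ := e.symm.surjective z
      rw [LinearEquiv.apply_symm_apply]
      induction w using TensorProduct.induction_on with
      | zero =>
        rw [map_zero, map_zero]
        exact ((congrArg e (smul_zero (A := MV A B' V (B' ⊗[B] M)) _)).trans (map_zero e)).symm
      | add w w' hw hw' =>
        rw [map_add, map_add, hw, hw', ← map_add]
        exact congrArg e (smul_add (A := MV A B' V (B' ⊗[B] M)) _ _ _).symm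
      | tmul b x =>
        have h2 := (key b ((1 : B) ⊗ₜ[A] π) x).trans
          (congrArg (fun w => e.symm (b ⊗ₜ[B] w)) (hμ x))
        rw [θ_one_tmul] at h2
        exact (LinearEquiv.apply_symm_apply e _).symm.trans (congrArg e h2.symm)
    rw [h1]
    exact (congrArg e hy).trans (map_zero e)
  obtain ⟨w, hw⟩ := (hex _).1 hμy
  suffices hs : ∀ w : B' ⊗[B] K, ∃ t : B ⊗[A] V, t ∉ Q.comap (θ A B B' V).toRingHom ∧
      θ A B B' V t • (show MV A B' V (B' ⊗[B] M) from e.symm (K.subtype.lTensor B' w)) = 0 by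
    obtain ⟨t, ht, h0⟩ := hs w
    refine ⟨θ A B B' V t, ht, ?_⟩
    rw [hw, LinearEquiv.symm_apply_apply] at h0
    exact h0
  intro w
  induction w using TensorProduct.induction_on with
  | zero =>
    refine ⟨1, Ideal.IsPrime.one_notMem inferInstance, ?_⟩
    have h0 : (show MV A B' V (B' ⊗[B] M) from e.symm (K.subtype.lTensor B' 0)) = 0 :=
      (congrArg e.symm (map_zero _)).trans (map_zero e.symm)
    exact (congrArg (θ A B B' V (1 : B ⊗[A] V) • ·) h0).trans (smul_zero _)
  | add w w' hw hw' =>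
    obtain ⟨t, ht, h1⟩ := hw
    obtain ⟨t', ht', h2⟩ := hw'
    refine ⟨t * t', fun hh => ((Ideal.IsPrime.mem_or_mem inferInstance hh).elim ht ht'), ?_⟩
    rw [map_add, map_add, map_mul]
    refine (smul_add (A := MV A B' V (B' ⊗[B] M)) _ _ _).trans ?_
    rw [mul_comm (θ A B B' V t), mul_smul, h1, smul_zero, zero_add,
      mul_comm (θ A B B' V t'), mul_smul, h2, smul_zero]
  | tmul b k =>
    obtain ⟨t, ht, htk⟩ := h V (Q.comap (θ A B B' V).toRingHom) ((comap_θ_left Q).trans (by rw [hl]))
      ((comap_θ_right Q).trans hr) π hπ (show MV A B V M from k.1) ((hμ _).trans k.2)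
    refine ⟨t, ht, ?_⟩
    rw [LinearMap.lTensor_tmul]
    refine (key b t _).trans ?_
    exact (congrArg (fun w => e.symm (b ⊗ₜ[B] w)) htk).trans
      ((congrArg e.symm (TensorProduct.tmul_zero _ b)).trans (map_zero e.symm))

end Flat

end Groth.Agent.FlatValLib
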